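import Mathlib
import Cfsg.Agent.Lib.L5R.Noa
import Cfsg.Agent.Lib.M24R.Le2
import Cfsg.Agent.Lib.M24R.CfA
import Cfsg.Agent.Lib.AG.Basic

/-!
# strong closure (plans/L5R.md)
-/

set_option autoImplicit false
set_option maxHeartbeats 400000
set_option Elab.async false

namespace CfsgLib.L5R

open Subgroup Cfsg CfsgLib.Tech CfsgLib.Held CfsgLib.MOrb CfsgLib.L72 CfsgLib.LargeExtra CfsgLib.ExtraTwo

variable {G : Type*} [Group G] [Finite G] {V S S0 T0 : Subgroup G} {d : G}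

namespace Nosx

open scoped Pointwise

omit [Finite G] in
theorem inv' {A : Subgroup G} (h : ∀ a ∈ A, a * a = 1) {a : G} (ha : a ∈ A) : a⁻¹ = a :=
  inv_eq_of_mul_eq_one_right (h a ha)

omit [Finite G] in
theorem comm {A : Subgroup G} (h : ∀ a ∈ A, a * a = 1) {a b : G} (ha : a ∈ A) (hb : b ∈ A) : a * b = b * a := by
  rw [← inv' h (mul_mem ha hb), mul_inv_rev, inv' h ha, inv' h hb]

omit [Finite G] in
theorem sq_cj {A : Subgroup G} (h : ∀ a ∈ A, a * a = 1) (g : G) : ∀ a ∈ cj g A, a * a = 1 := fun x hx => by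
  calc x * x = g * (g⁻¹ * x * g * (g⁻¹ * x * g)) * g⁻¹ := by group
    _ = 1 := by rw [h _ (mem_cj.1 hx)]; group

variable (h : NO V S S0 T0 d) {B : Subgroup G}
include h

omit [Finite G] in
theorem VS : V ≤ S := h.VT.trans (h.TS.trans h.SS)

omit [Finite G] in
theorem dec (hB : B ≤ S) {y : G} (hy : y ∈ V ⊔ B) : ∃ v ∈ V, ∃ b ∈ B, v * b = y := by
  have hy2 : y ∈ ((V ⊔ B : Subgroup G) : Set G) := hy
  rwa [coe_mul_of_right_le_normalizer_left _ _ (hB.trans h.norm)] at hy2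

omit [Finite G] in
theorem sqY (hB : B ≤ S) (b2 : ∀ b ∈ B, b * b = 1) : ∀ y ∈ V ⊔ B, y * y ∈ V := fun y hy => by
  obtain ⟨v, hv, b, hb, rfl⟩ := dec h hB hy
  have := mul_mem hv (conj_mem_of_mem_normalizer (h.norm (hB hb)) hv)
  rw [inv' b2 hb] at this
  simpa only [mul_assoc] using this

omit [Finite G] in
theorem I_le (hB : B ≤ S) (b2 : ∀ b ∈ B, b * b = 1) :
    V ⊓ B ≤ V ⊓ centralizer ((V ⊔ B : Subgroup G) : Set G) := fun x hx => mem_inf.2 ⟨hx.1, fun y hy => by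
  obtain ⟨v, hv, b, hb, rfl⟩ := dec h hB hy
  rw [mul_assoc, comm b2 hb hx.2, ← mul_assoc, comm h.sq hv hx.1, mul_assoc]⟩

omit h in
theorem card_B (V B : Subgroup G) : Nat.card B ≤ Nat.card (V ⊓ B : Subgroup G) * V.relIndex (V ⊔ B) := by
  rw [← card_mul_relIndex' (inf_le_right : V ⊓ B ≤ B), inf_relIndex_right]
  exact Nat.mul_le_mul_left _ (relIndex_le_of_le_right le_sup_right index_ne_zero_of_finite)

theorem step {D : Subgroup G} (hD : D ≤ S)
    (syl : IsSylowIn 2 (S ⊓ normalizer (D : Set G)) (⊤ ⊓ normalizer (D : Set G)))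
    (ih : ∀ g ∈ normalizer (D : Set G), ∀ y ∈ S ⊓ normalizer (D : Set G), y ∉ D → g * y * g⁻¹ ∈ S →
      ∀ x ∈ D, x ∈ V → g * x * g⁻¹ ∈ V) {g : G} (hg : g ∈ normalizer (D : Set G)) :
    ∀ x ∈ D, x ∈ V → g * x * g⁻¹ ∈ V := by
  by_cases hV : V ≤ D
  · have hB : cj g V ≤ S := cj_le_iff.2 fun x hx => hD (conj_mem_of_mem_normalizer hg (hV hx))
    have e := h.off le_sup_left (sup_le (VS h) hB) (sqY h hB (sq_cj h.sq g)) (by
      rw [← h.card, ← card_cj g V, mul_comm]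
      exact (card_B V _).trans (Nat.mul_le_mul_right _ (card_le_of_le (I_le h hB (sq_cj h.sq g)))))
    exact fun x _ hx => e.le (mem_sup_right (conj_mem_cj.2 hx))
  by_contra hg'
  set N := ⊤ ⊓ normalizer (D : Set G) with hN
  have hΓ : ∀ g ∈ N, (∀ x ∈ D, x ∈ V → g * x * g⁻¹ ∈ V) → g ∈ N ⊓ normalizer ((D ⊓ V : Subgroup G) : Set G) :=
    fun g hg h => mem_inf.2 ⟨hg, mem_normalizer_of_forall fun x hx =>
      mem_inf.2 ⟨conj_mem_of_mem_normalizer hg.2 hx.1, h x hx.1 hx.2⟩⟩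
  have s : M24R.SE D (S ⊓ normalizer (D : Set G)) (N ⊓ normalizer ((D ⊓ V : Subgroup G) : Set G)) N :=
    ⟨le_inf hD le_normalizer, syl, inf_le_right, inf_le_left,
      fun g hg y hy hy' h => hΓ g hg (ih g hg.2 y hy hy' h.1)⟩
  obtain ⟨y, hy, hy', hyn⟩ := exists_mem_normalizer_of_lt (Q := D) (T := V ⊔ D)
    (h.two.to_le (sup_le (VS h) hD)) (lt_of_le_of_ne le_sup_right fun e => hV (le_sup_left.trans e.ge))
  obtain ⟨a, ha, u, hu, rfl⟩ := dec h hD hy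
  have ha' : a ∉ D := fun h => hy' (mul_mem h hu)
  have han : a ∈ normalizer (D : Set G) := by simpa using mul_mem hyn (inv_mem (le_normalizer hu))
  obtain ⟨ρ, hρ, ho, hi, hρ'⟩ := s.exists_rho (mem_inf.2 ⟨VS h ha, han⟩) ha' (h.sq a ha) (mem_inf.2 ⟨mem_top g, hg⟩)
    fun e => hg' fun x hx hv => (conj_mem_of_mem_normalizer e.2 (mem_inf.2 ⟨hx, hv⟩)).2
  obtain ⟨b, c⟩ := M24R.exists_cfg h.two (VS h) h.norm h.sq hD s
    (fun g hg h => hΓ g (mem_inf.2 ⟨hg, mem_normalizer_of_forall fun x hx => by rwa [h x hx, mul_inv_cancel_right]⟩)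
      fun x hx hq => by rwa [h x hx, mul_inv_cancel_right]) ha ha' han hρ.1 hρ.2 ho hi hρ'
  have cB := card_cj ρ (V ⊓ D)
  have b2 := sq_cj (A := V ⊓ D) (fun x hx => h.sq x hx.1) ρ
  have hB : cj ρ (V ⊓ D) ≤ S := cj_le_iff.2 fun x hx => hD (conj_mem_of_mem_normalizer hρ.2 hx.2)
  generalize cj ρ (V ⊓ D) = B at c cB b2 hB
  have cv : ∀ v ∈ V, b * v * b⁻¹ ∈ V := fun v hv => conj_mem_of_mem_normalizer (h.norm (hB c.b_mem)) hv
  have key : ∀ C U : Subgroup G, V ⊓ B ≤ C → U ≤ V → (∀ v ∈ U, v * (b * v * b⁻¹) ∈ C) →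
      Nat.card U ≤ V.relIndex (V ⊔ B) * Nat.card C := fun C U hI hU hf => by
    have h1 := M24R.CfAx.idx (inf_le_left : U ⊓ D ≤ U) hI hf fun x hx y hy e => by
      have hw := mul_mem (inv_mem hx) hy
      refine mem_inf.2 ⟨hw, (c.f4 _ (hU hw)).2 ?_⟩
      suffices e' : (x * (b * x * b⁻¹))⁻¹ * (y * (b * y * b⁻¹)) = x⁻¹ * y * (b * (x⁻¹ * y) * b⁻¹) from
        e' ▸ (mem_inf.1 e).2
      rw [mul_inv_rev x, ← comm h.sq (inv_mem (hU hx)) (inv_mem (cv x (hU hx)))]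
      symm
      calc x⁻¹ * y * (b * (x⁻¹ * y) * b⁻¹) = x⁻¹ * (y * (b * x * b⁻¹)⁻¹) * (b * y * b⁻¹) := by group
        _ = _ := by rw [comm h.sq (hU hy) (inv_mem (cv x (hU hx)))]; group
    have h2 := (card_le_of_le (inf_le_inf_right D hU)).trans (cB.ge.trans (card_B V B))
    refine Nat.le_of_mul_le_mul_left (c := Nat.card (V ⊓ B : Subgroup G)) ?_ Nat.card_pos
    rw [mul_comm, ← mul_assoc]
    exact h1.trans (Nat.mul_le_mul_right _ h2)
  refine h.cfg le_sup_left (sup_le (VS h) hB) (sqY h hB b2) (mem_sup_right c.b_mem) c.b_not ?_ fun U hU e => ?_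
  · rw [← h.card]
    refine key _ V ((I_le h hB b2).trans (inf_le_inf_left _ (centralizer_le
      (zpowers_le.2 (mem_sup_right c.b_mem))))) le_rfl fun v hv => mem_inf.2 ⟨mul_mem hv (cv v hv), ?_⟩
    refine mem_centralizer_iff.2 fun x hx => ?_
    obtain ⟨k, rfl⟩ := mem_zpowers_iff.1 hx
    refine (Commute.zpow_left (?_ : b * _ = _) k).eq
    have bb := b2 b c.b_mem
    rw [inv' b2 c.b_mem]
    calc b * (v * (b * v * b)) = b * v * b⁻¹ * (b * b) * v * b := by group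
      _ = v * (b * v * b⁻¹) * b := by rw [bb, mul_one, comm h.sq (cv v hv) hv]
      _ = _ := by rw [inv' b2 c.b_mem]
  · refine key _ U (I_le h hB b2) hU fun v hv => mem_inf.2 ⟨mul_mem (hU hv) (cv v (hU hv)), ?_⟩
    have := e v hv
    rw [inv' h.sq (hU hv)] at this
    simpa only [mul_assoc] using this

end Nosx

theorem NO.strong (h : NO V S S0 T0 d) (hS : IsSylowIn 2 S ⊤) :
    ∀ g : G, ∀ x ∈ V, g * x * g⁻¹ ∈ S → g * x * g⁻¹ ∈ V := by
  intro g x hx ht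
  obtain ⟨P, rfl⟩ : ∃ P : Sylow 2 G, (P : Subgroup G) = S := ⟨_, hS.coe_toSylowTop⟩
  refine AG.ag_induction P (fun A g => ∀ x ∈ A, x ∈ V → g * x * g⁻¹ ∈ V)
    (fun A B g h1 h2 x hx => h2 x (h1 hx)) (fun A g h h1 h2 x hx hq => ?_) (fun A c _ hc x hx hq => ?_)
    (fun D hD ih g hg => ?_) (zpowers x) g (zpowers_le.2 (Nosx.VS h hx)) ?_ x (mem_zpowers _) hx
  · have h3 := h2 _ (conj_mem_cj.2 hx) (h1 x hx hq)
    simpa [mul_assoc] using h3
  · rwa [← hc x hx, mul_inv_cancel_right]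
  · refine Nosx.step h hD.le (by rw [top_inf_eq]; exact hD.syl) (fun g hg y hy hy' ht x hx hq => ?_) hg
    refine ih (D ⊔ zpowers y) g (sup_le hD.le (zpowers_le.2 hy.1)) ?_ ?_ x (mem_sup_left hx) hq
    · exact lt_of_le_of_ne (card_le_of_le le_sup_left) fun e =>
        hy' ((eq_of_le_of_card_ge le_sup_left e.ge).ge (mem_sup_right (mem_zpowers _)))
    · rw [cj_sup, cj_zpowers, mem_normalizer_iff_cj.1 hg]
      exact sup_le hD.le (zpowers_le.2 ht)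
  · rw [cj_zpowers]
    exact zpowers_le.2 ht

end CfsgLib.L5R
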