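import Mathlib
import Cfsg.Agent.Lib.L5R.Nos
import Cfsg.Agent.Lib.L5R.F1
import Cfsg.Agent.Lib.L5R.Bas3
import Cfsg.Agent.Lib.L33.Tool

/-!
# `Q` is strongly closed in `S` with respect to `C(z)` (plans/L5R.md)
-/

set_option autoImplicit false
set_option maxHeartbeats 400000
set_option Elab.async false

namespace CfsgLib.L5R

open Subgroup Cfsg CfsgLib.Tech CfsgLib.Held CfsgLib.MOrb CfsgLib.L72 CfsgLib.LargeExtra CfsgLib.ExtraTwo

variable {G : Type*} [Group G] [Finite G] {m : Fr G}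

namespace Str

variable {z : G} {K Q : Subgroup G}

/-- the projection `C(z) → C(z) / ⟨z⟩` -/
abbrev pz (z : G) : centralizer ({z} : Set G) →* M24R.Yp z := QuotientGroup.mk' _

/-- the image of a subgroup -/
def bar (z : G) (K : Subgroup G) : Subgroup (M24R.Yp z) := (K.subgroupOf (centralizer {z})).map (pz z)

/-- the preimage of a subgroup -/
def pre (z : G) (Y : Subgroup (M24R.Yp z)) : Subgroup G := (Y.comap (pz z)).map (centralizer {z}).subtype

omit [Finite G] in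
theorem surj (y : M24R.Yp z) : ∃ a, pz z a = y := QuotientGroup.mk_surjective y

omit [Finite G] in
theorem pr_one (hz : z * z = 1) {a : centralizer ({z} : Set G)} : pz z a = 1 ↔ (a : G) = 1 ∨ (a : G) = z := by
  rw [QuotientGroup.mk'_apply, QuotientGroup.eq_one_iff, mem_subgroupOf, mem_zpowers_iff_of_mul_self hz]

omit [Finite G] in
theorem comap_bar (hK : z ∈ K) : (bar z K).comap (pz z) = K.subgroupOf (centralizer {z}) := by
  rw [bar, comap_map_eq, QuotientGroup.ker_mk', sup_eq_left]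
  exact fun a ha => zpowers_le.2 hK ha

omit [Finite G] in
theorem mem_bar (hK : z ∈ K) {a : centralizer ({z} : Set G)} : pz z a ∈ bar z K ↔ (a : G) ∈ K := by
  rw [← mem_comap, comap_bar hK, mem_subgroupOf]

omit [Finite G] in
theorem bar_mono (h : Q ≤ K) : bar z Q ≤ bar z K := map_mono (comap_mono h)

omit [Finite G] in
theorem mem_pre {Y : Subgroup (M24R.Yp z)} {a : centralizer ({z} : Set G)} : (a : G) ∈ pre z Y ↔ pz z a ∈ Y :=
  mem_map_iff_mem (subtype_injective _)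

omit [Finite G] in
theorem pre_le (Y : Subgroup (M24R.Yp z)) : pre z Y ≤ centralizer {z} := map_subtype_le _

omit [Finite G] in
theorem pre_bar (hK : z ∈ K) (h : K ≤ centralizer {z}) : pre z (bar z K) = K := by
  rw [pre, comap_bar hK, map_subgroupOf_eq_of_le h]

omit [Finite G] in
theorem pre_mono {Y Y' : Subgroup (M24R.Yp z)} (h : Y ≤ Y') : pre z Y ≤ pre z Y' := map_mono (comap_mono h)

omit [Finite G] in
theorem rel_pre (Y Y' : Subgroup (M24R.Yp z)) : (pre z Y).relIndex (pre z Y') = Y.relIndex Y' := by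
  rw [pre, pre, relIndex_map_map_of_injective _ _ (subtype_injective _), relIndex_comap,
    map_comap_eq_self_of_surjective surj]

omit [Finite G] in
theorem card_pre (es : ES Q z) (Y : Subgroup (M24R.Yp z)) : Nat.card (pre z Y) = 2 * Nat.card Y := by
  rw [pre, card_map_of_injective (subtype_injective _)]
  refine (QuotientGroup.card_preimage_mk _ (Y : Set (M24R.Yp z))).trans ?_
  rw [Nat.card_congr (subgroupOfEquivOfLe (zpowers_le.2 (mem_centralizer_singleton_iff.2 rfl))).toEquiv,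
    Nat.card_zpowers, es.orderOf_eq]
  rfl

omit [Finite G] in
theorem comm_iff (hz : z * z = 1) {a b : centralizer ({z} : Set G)} : pz z a * pz z b = pz z b * pz z a ↔
    (a : G) * b * (a : G)⁻¹ * (b : G)⁻¹ = 1 ∨ (a : G) * b * (a : G)⁻¹ * (b : G)⁻¹ = z := by
  rw [← mul_inv_eq_one, mul_inv_rev, ← mul_assoc, ← map_inv, ← map_inv, ← map_mul, ← map_mul, ← map_mul, pr_one hz]
  rfl

omit [Finite G] in
theorem pre_cS (es : ES Q z) (Y : Subgroup (M24R.Yp z)) :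
    (pre z (bar z Q ⊓ centralizer (Y : Set (M24R.Yp z))) : Set G) = cS Q z (pre z Y) := by
  ext x
  constructor
  · intro hx
    lift x to centralizer ({z} : Set G) using pre_le _ hx
    obtain ⟨h1, h2⟩ := mem_inf.1 (mem_pre.1 hx)
    refine ⟨(mem_bar es.mem).1 h1, fun b hb => ?_⟩
    lift b to centralizer ({z} : Set G) using pre_le _ hb
    exact (comm_iff es.mul_self).1 (mem_centralizer_iff.1 h2 _ (mem_pre.1 hb)).symm
  · rintro ⟨h1, h2⟩
    lift x to centralizer ({z} : Set G) using mem_centralizer_singleton_iff.2 (es.comm_z x h1)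
    refine mem_pre.2 ⟨(mem_bar es.mem).2 h1, mem_centralizer_iff.2 fun y hy => ?_⟩
    obtain ⟨b, rfl⟩ := surj y
    exact ((comm_iff es.mul_self).2 (h2 b (mem_pre.2 hy))).symm

omit [Finite G] in
theorem cc_eq (es : ES Q z) (Y : Subgroup (M24R.Yp z)) : 2 * cc (bar z Q) Y = (cS Q z (pre z Y)).ncard := by
  rw [← pre_cS es, cc, ← card_pre es, ← Nat.card_coe_set_eq]
  rfl

theorem quad (es : ES Q z) {C : Subgroup G} (h1 : C ≤ Q) (h2 : z ∈ C) (hc : Nat.card C * Nat.card C = 2 * Nat.card Q)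
    (ab : ∀ a ∈ C, ∀ b ∈ C, a * b = b * a) {s : G} (sQ : s ∈ normalizer (Q : Set G)) (sz : s * z = z * s)
    (hs : ∀ c ∈ C, s * c * s⁻¹ * c⁻¹ = 1 ∨ s * c * s⁻¹ * c⁻¹ = z) {v : G} (hv : v ∈ Q) : v * s * v⁻¹ * s⁻¹ ∈ C := by
  have e : C = Q ⊓ centralizer (C : Set G) := by
    refine eq_of_le_of_card_ge (le_inf h1 fun a ha b hb => ab b hb a ha) ?_
    have := card_mul_card_centralizer es h1 h2
    rw [← hc] at this
    exact (Nat.eq_of_mul_eq_mul_left Nat.card_pos this).le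
  rw [e]
  refine mem_inf.2 ⟨?_, mem_centralizer_iff.2 fun c hc => ?_⟩
  · have := mul_mem hv (conj_mem_of_mem_normalizer sQ (inv_mem hv))
    simpa only [mul_assoc] using this
  obtain ⟨l, l1, l2, l3⟩ : ∃ l, l * v = v * l ∧ (l = 1 ∨ l = z) ∧ s⁻¹ * c * s = c * l := by
    rcases hs c hc with k | k
    · exact ⟨1, by simp, .inl rfl, by
        rw [mul_inv_eq_one] at k
        conv_lhs => rw [← k]
        group⟩
    · refine ⟨z, (es.comm_z v hv).symm, .inr rfl, ?_⟩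
      calc s⁻¹ * c * s = s⁻¹ * (z * z * c) * s := by rw [es.mul_self, one_mul]
        _ = s⁻¹ * (z * (s * c * s⁻¹ * c⁻¹) * c) * s := by rw [k]
        _ = s⁻¹ * (z * s) * c := by group
        _ = _ := by rw [← sz, es.comm_z c (h1 hc)]; group
  obtain ⟨k, k1, k2, k3⟩ : ∃ k, k * s = s * k ∧ k * l = l * k ∧ v⁻¹ * c * v = c * k := by
    rcases es.conj (h1 hc) (inv_mem hv) with k | k <;> rw [inv_inv] at k
    · exact ⟨1, by simp, by simp, by rw [k, mul_one]⟩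
    · exact ⟨z, sz.symm, by rcases l2 with rfl | rfl <;> simp, k⟩
  symm
  rw [← mul_inv_eq_iff_eq_mul]
  calc v * s * v⁻¹ * s⁻¹ * c * (v * s * v⁻¹ * s⁻¹)⁻¹ = v * s * v⁻¹ * (s⁻¹ * c * s) * v * s⁻¹ * v⁻¹ := by group
    _ = v * s * (v⁻¹ * c * v) * l * s⁻¹ * v⁻¹ := by
      rw [l3, mul_assoc _ _ v, mul_assoc c, l1]; group
    _ = v * s * (c * l) * k * s⁻¹ * v⁻¹ := by rw [k3, mul_assoc _ _ l, mul_assoc c, k2]; group
    _ = v * c * (s * k) * s⁻¹ * v⁻¹ := by rw [← l3]; group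
    _ = v * (c * k) * v⁻¹ := by rw [← k1]; group
    _ = c := by rw [← k3]; group

end Str

open Str

namespace St

variable {S : Subgroup G} (h : St m S)

omit [Finite G] in
theorem st_es (m : Fr G) : ES m.Q m.z := es_Q0.map_of_injective _ m.inj

theorem Q0_Tz : Q0 ≤ Tz := pat_le (by decide) (by decide)

theorem Tz_T0 : Tz ≤ T0 := pat_le (by decide) (by decide)

include h

omit [Finite G] in
theorem st_QS : m.Q ≤ S := (map_mono (Q0_Tz.trans Tz_T0)).trans h.le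

/-- the elements of `S` that centralise `d` modulo `Q` -/
def S0 : Subgroup G where
  carrier := {s | s ∈ S ∧ s * m.d * s⁻¹ * m.d⁻¹ ∈ m.Q}
  one_mem' := ⟨one_mem _, by simpa using one_mem _⟩
  mul_mem' := fun {a b} ha hb => ⟨mul_mem ha.1 hb.1, by
    have := mul_mem (conj_mem_of_mem_normalizer (h.nQ ha.1) hb.2) ha.2
    convert this using 1
    group⟩
  inv_mem' := fun {a} ha => ⟨inv_mem ha.1, by
    have := conj_mem_of_mem_normalizer' (h.nQ ha.1) (inv_mem ha.2)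
    convert this using 1
    group⟩

omit [Finite G] in
theorem Tz_S0 : m.im Tz ≤ h.S0 := by
  rintro _ ⟨x, hx, rfl⟩
  refine ⟨h.le (mem_map_of_mem _ (Tz_T0 hx)), ?_⟩
  simpa only [map_mul, map_inv] using mem_map_of_mem m.φ (Tz_d0 hx)

omit [Finite G] in
theorem S0_T {s : G} (h1 : s ∈ h.S0) (h2 : s ∈ m.T) : s ∈ m.im Tz := by
  obtain ⟨x, hx, rfl⟩ := h2
  by_contra k
  have a := T0_d0 hx fun j => k (mem_map_of_mem _ j)
  have b := h1.2
  rw [← map_inv, ← map_inv, ← map_mul, ← map_mul, ← map_mul, Fr.φ_mem] at b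
  have := mul_mem (inv_mem b) a
  refine d0_not ?_
  convert this using 1
  group

omit [Finite G] in
theorem st_fai {s : G} (hs : s ∈ S) (hc : ∀ q ∈ m.Q, q * s * q⁻¹ * s⁻¹ = 1 ∨ q * s * q⁻¹ * s⁻¹ = m.z) : s ∈ m.Q := by
  by_cases k : s ∈ m.T
  · obtain ⟨x, hx, rfl⟩ := k
    refine mem_map_of_mem _ (fai_T0 hx fun q hq => ?_)
    have := hc _ (mem_map_of_mem _ hq)
    rwa [← map_inv, ← map_inv, ← map_mul, ← map_mul, ← map_mul, ← map_one m.φ, Fr.φ_eq, Fr.φ_eq] at this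
  · exfalso
    have a : s * m.φ (t 0 4) * s⁻¹ ∈ m.im A1 :=
      h.swap s hs k ▸ conj_mem_cj.2 (mem_map_of_mem _ (by decide +kernel))
    have b : m.φ (t 0 4) * s * (m.φ (t 0 4))⁻¹ * s⁻¹ ∈ m.im A1 := by
      rcases hc _ (mem_map_of_mem m.φ (show t 0 4 ∈ Q0 by decide +kernel)) with e | e <;> rw [e]
      exacts [one_mem _, mem_map_of_mem _ (by decide +kernel)]
    have c := mul_mem b a
    rw [show m.φ (t 0 4) * s * (m.φ (t 0 4))⁻¹ * s⁻¹ * (s * m.φ (t 0 4) * s⁻¹) = m.φ (t 0 4) * (s * s⁻¹) by group,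
      mul_inv_cancel, mul_one, Fr.φ_mem] at c
    exact absurd c (by decide +kernel)

theorem st_f4 {Y : Subgroup G} (h1 : m.Q ≤ Y) (h2 : Y ≤ h.S0) (sq : ∀ y ∈ Y, y * y ∈ m.Q) : m.Q.relIndex Y ≤ 16 := by
  by_contra hn
  have YS : Y ≤ S := fun y hy => (h2 hy).1
  have e1 := Fr.im_comap (m := m) (B := Y ⊓ m.T) (inf_le_right.trans Fr.im_le_N)
  obtain ⟨a1, a2⟩ := f1d (Y := (Y ⊓ m.T).comap m.φ)
    (fun x hx => ⟨h1 (mem_map_of_mem _ hx), mem_map_of_mem _ (Tz_T0 (Q0_Tz hx))⟩)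
    (fun x hx => Fr.φ_mem.1 (h.S0_T (h2 hx.1) hx.2)) fun x hx => (Fr.φ_mem (m := m)).1 (by rw [map_mul]; exact sq _ hx.1)
  rw [← relIndex_map_map_of_injective _ _ m.inj] at a1 a2
  change m.Q.relIndex (m.im _) ≤ 16 at a1
  change m.Q.relIndex (m.im _) = 16 → _ at a2
  rw [e1] at a1 a2
  have c1 := card_mul_relIndex' h1
  have c2 := card_mul_relIndex' (le_inf h1 (map_mono (Q0_Tz.trans Tz_T0)) : m.Q ≤ Y ⊓ m.T)
  have c3 := L33.card_le_two_mul (K := m.T) (Y := Y) fun a ha b hb a' b' =>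
    h.idx _ (inv_mem (YS ha)) _ (YS hb) (fun k => a' (inv_mem_iff.1 k)) b'
  rw [← c1, ← c2, Fr.card_im, card_Q0] at c3
  obtain ⟨k, hk⟩ := IsPGroup.iff_card.1 (h.syl.pgroup.to_le YS)
  obtain ⟨j, -, hj⟩ := (Nat.dvd_prime_pow Nat.prime_two).1 (hk ▸ Dvd.intro_left _ c1)
  have : 2 ^ 5 ≤ m.Q.relIndex Y := by
    rw [hj] at hn ⊢
    refine Nat.pow_le_pow_right (by norm_num) (by_contra fun k => hn ?_)
    exact (Nat.pow_le_pow_right (by norm_num) (by omega : j ≤ 4))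
  have tY : m.φ (t 2 4) ∈ Y ⊓ m.T := by
    rw [← mem_comap, a2 (by omega)]
    decide +kernel
  obtain ⟨y, hy, hy'⟩ : ∃ y ∈ Y, y ∉ m.T := by
    by_contra k
    push Not at k
    rw [inf_eq_left.2 k] at a1
    exact hn a1
  obtain ⟨a, ha, e⟩ : y * m.φ (t 2 4) * y⁻¹ ∈ m.im A1 :=
    h.swap y (YS hy) hy' ▸ conj_mem_cj.2 (mem_map_of_mem _ (by decide +kernel))
  refine t24_not ha (Fr.φ_mem.1 (?_ : _ ∈ m.Q))
  have := mul_mem (sq _ (mul_mem hy tY.1)) (conj_mem_of_mem_normalizer' (h.nQ (YS tY.1)) (inv_mem (sq y hy)))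
  rw [map_mul, e]
  convert this using 1
  group

theorem st_no : NO (bar m.z m.Q) (bar m.z S) (bar m.z h.S0) (bar m.z (m.im Tz))
    (pz m.z ⟨m.d, Fr.mem_H.2 (by rw [← map_mul, ← map_mul, mem_H0.1 d0_H0])⟩) := by
  have es := st_es m
  have zQ := es.mem
  have zT : m.z ∈ m.im Tz := map_mono Q0_Tz zQ
  have z0 := h.Tz_S0 zT
  have zS := h.st_QS zQ
  have QH : m.Q ≤ m.H := h.st_QS.trans h.zc
  have TH : m.im Tz ≤ m.H := ((map_mono Tz_T0).trans h.le).trans h.zc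
  have nb : ∀ a : m.H, (a : G) ∈ normalizer (m.Q : Set G) → pz m.z a ∈ normalizer (bar m.z m.Q : Set _) :=
    fun a ha => mem_normalizer_of_forall fun x hx => by
      obtain ⟨x, rfl⟩ := surj x
      rw [← map_inv, ← map_mul, ← map_mul, mem_bar zQ]
      exact conj_mem_of_mem_normalizer ha ((mem_bar zQ).1 hx)
  have pY : ∀ {Y K}, m.z ∈ K → bar m.z m.Q ≤ Y → Y ≤ bar m.z K → K ≤ m.H → (∀ y ∈ Y, y * y ∈ bar m.z m.Q) →
      m.Q ≤ pre m.z Y ∧ pre m.z Y ≤ K ∧ (∀ y ∈ pre m.z Y, y * y ∈ m.Q) ∧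
        m.Q.relIndex (pre m.z Y) = (bar m.z m.Q).relIndex Y := fun {Y K} zK h1 h2 h3 h4 => by
    refine ⟨pre_bar zQ QH ▸ pre_mono h1, pre_bar zK h3 ▸ pre_mono h2, fun y hy => ?_, by
      rw [← rel_pre, pre_bar zQ QH]⟩
    lift y to m.H using pre_le _ hy
    have := h4 _ (mem_pre.1 hy)
    rwa [← map_mul, mem_bar zQ] at this
  refine ⟨fun v hv => ?_, ?_, bar_mono (map_mono Q0_Tz), bar_mono h.Tz_S0, bar_mono fun s hs => hs.1,
    (h.syl.pgroup.comap_subtype (K := m.H)).map _, fun s hs => ?_, nb _ ?_, ?_, fun v hv hc => ?_, fun s hs => ?_,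
    fun s hs hs' => ?_, fun s hs s' hs' k k' => ?_, fun s hs hc => ?_, fun Y h1 h2 h3 h4 => ?_,
    fun Y h1 h2 h3 h4 => ?_, fun Y h1 h2 h3 => ?_⟩
  · obtain ⟨v, rfl⟩ := surj v
    rw [← map_mul, pr_one es.mul_self]
    exact es.sq ((mem_bar zQ).1 hv)
  · have := card_pre es (bar m.z m.Q)
    rw [pre_bar zQ QH, Fr.card_im, card_Q0] at this
    omega
  · obtain ⟨s, rfl⟩ := surj s
    exact nb s (h.nQ ((mem_bar zS).1 hs))
  · exact le_normalizer_map m.φ (mem_map_of_mem _ (H0_norm d0_H0))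
  · rw [← map_pow, pr_one es.mul_self]
    exact .inl (by rw [coe_pow, ← map_pow, d0_three, map_one])
  · obtain ⟨v, rfl⟩ := surj v
    obtain ⟨q, hq, e⟩ := (mem_bar zQ).1 hv
    rw [comm_iff es.mul_self, ← e] at hc
    rw [pr_one es.mul_self, ← e, ← map_one m.φ, Fr.φ_eq, Fr.φ_eq]
    refine d0_fpf hq ?_
    rwa [← map_inv, ← map_inv, ← map_mul, ← map_mul, ← map_mul, ← map_one m.φ, Fr.φ_eq, Fr.φ_eq] at hc
  · obtain ⟨s, rfl⟩ := surj s
    rw [← map_inv, ← map_inv, ← map_mul, ← map_mul, ← map_mul, mem_bar zQ]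
    exact ((mem_bar z0).1 hs).2
  · obtain ⟨s, rfl⟩ := surj s
    rw [← map_inv, ← map_mul, ← map_mul, ← map_mul, mem_bar zQ]
    rw [mem_bar zS] at hs
    exact (h.nd _ hs).resolve_left fun k => hs' ((mem_bar z0).2 ⟨hs, k⟩)
  · obtain ⟨s, rfl⟩ := surj s
    obtain ⟨s', rfl⟩ := surj s'
    rw [mem_bar z0] at hs hs'
    rw [mem_bar zT] at k k'
    rw [← map_mul, mem_bar zT]
    exact h.S0_T (mul_mem hs hs') (h.idx _ hs.1 _ hs'.1 (fun j => k (h.S0_T hs j)) fun j => k' (h.S0_T hs' j))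
  · obtain ⟨s, rfl⟩ := surj s
    refine (mem_bar zQ).2 (h.st_fai ((mem_bar zS).1 hs) fun q hq => ?_)
    exact (comm_iff es.mul_self (a := ⟨q, QH hq⟩)).1 (hc _ ((mem_bar zQ).2 hq)).symm
  · obtain ⟨b1, b2, b3, -⟩ := pY zT h1 h2 TH h3
    obtain ⟨y, hy, hy'⟩ := SetLike.not_le_iff_exists.1 fun k => h4 (le_antisymm k h1)
    obtain ⟨y, rfl⟩ := surj y
    rw [← mem_pre] at hy
    obtain ⟨x, hx, e⟩ := b2 hy
    have c1 := f1a hx (fun k => hy' ((mem_bar zQ).2 (e ▸ mem_map_of_mem _ k)))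
      ((Fr.φ_mem (m := m)).1 (by rw [map_mul, e]; exact b3 _ hy))
    rw [← ncard_cS_map m.inj, Set.image_singleton, e] at c1
    have c2 := Set.ncard_le_ncard (cS_anti (Q := m.Q) (z := m.z) (Set.singleton_subset_iff.2 hy))
    have := cc_eq es Y
    change (cS m.Q m.z _).ncard = 512 at c1
    omega
  · obtain ⟨b1, b2, b3, b4⟩ := pY zT h1 h2 TH h3
    have e1 := Fr.im_comap (m := m) (b2.trans Fr.im_le_N)
    obtain ⟨a1, a2⟩ := f1c (Y := (pre m.z Y).comap m.φ) (fun x hx => b1 (mem_map_of_mem _ hx))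
      (fun x hx => Fr.φ_mem.1 (b2 hx)) (fun x hx => (Fr.φ_mem (m := m)).1 (by rw [map_mul]; exact b3 _ hx)) (by
        rw [← relIndex_map_map_of_injective _ _ m.inj]
        change 8 ≤ m.Q.relIndex (m.im _)
        rwa [e1, b4])
    have e2 : cS m.Q m.z (pre m.z Y) = m.φ '' cS Q0 L5R.z0 ((pre m.z Y).comap m.φ) := by
      rw [← cS_map m.inj, ← coe_map]
      congr 2
      exact e1.symm
    have c := cc_eq es Y
    rw [e2, Set.ncard_image_of_injective _ m.inj] at c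
    refine ⟨by omega, fun k s hs hc v hv => ?_⟩
    obtain ⟨s, rfl⟩ := surj s
    obtain ⟨v, rfl⟩ := surj v
    rw [← map_inv, ← map_inv, ← map_mul, ← map_mul, ← map_mul]
    refine (mem_inf.1 (mem_pre.1 (quad es (C := pre m.z (bar m.z m.Q ⊓ centralizer (Y : Set _)))
      ((pre_mono inf_le_left).trans (pre_bar zQ QH).le) ?_ ?_ (fun a ha b hb => ?_) (h.nQ ((mem_bar zS).1 hs))
      (Fr.mem_H.1 s.2) (fun c hc' => ?_) ((mem_bar zQ).1 hv)))).2
    · refine (mem_pre (a := ⟨m.z, QH zQ⟩)).2 ?_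
      rw [(pr_one es.mul_self).2 (.inr rfl)]
      exact one_mem _
    · rw [card_pre es, Fr.card_im, card_Q0]
      change 2 * cc _ _ * (2 * cc _ _) = _
      rw [k]
      norm_num
    · rw [← SetLike.mem_coe, pre_cS es, e2] at ha hb
      obtain ⟨a, ha, rfl⟩ := ha
      obtain ⟨b, hb, rfl⟩ := hb
      rw [← map_mul, ← map_mul, a2 (by omega) a ha b hb]
    · lift c to m.H using pre_le _ hc'
      exact (comm_iff es.mul_self).1 (hc _ (mem_pre.1 hc'))
  · obtain ⟨b1, b2, b3, b4⟩ := pY z0 h1 h2 (fun s hs => h.zc hs.1) h3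
    exact b4 ▸ h.st_f4 b1 b2 b3

end St

theorem St.strong {S : Subgroup G} (h : St m S) :
    ∀ g ∈ m.H, ∀ x ∈ m.Q, g * x * g⁻¹ ∈ S → g * x * g⁻¹ ∈ m.Q := by
  intro g hg x hx hs
  have es := St.st_es m
  have zS := h.st_QS es.mem
  have syl : IsSylowIn 2 (bar m.z S) ⊤ := ⟨le_top, h.st_no.two, by
    rw [relIndex_top_right, ← index_comap_of_surjective _ surj, comap_bar zS]
    exact (h.syl.of_le h.zc le_top).not_dvd⟩
  have := h.st_no.strong syl (pz m.z ⟨g, hg⟩) (pz m.z ⟨x, h.zc (h.st_QS hx)⟩) ((mem_bar es.mem).2 hx)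
  rw [← map_inv, ← map_mul, ← map_mul, mem_bar zS, mem_bar es.mem] at this
  exact this hs


end CfsgLib.L5R
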