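import Mathlib
import Cfsg.Agent.Lib.L5R.Str
import Cfsg.Agent.Lib.L5R.Bas1b
import Cfsg.Agent.Lib.M24R.Gold
import Cfsg.Agent.Lib.M24R.Red

/-!
# `Q` is normal in `C(z)`; reduction to simple groups (plans/L5R.md)
-/

set_option autoImplicit false
set_option maxHeartbeats 400000
set_option Elab.async false

namespace CfsgLib.L5R

open Subgroup Cfsg CfsgLib.Tech CfsgLib.Held CfsgLib.MOrb CfsgLib.L72 CfsgLib.LargeExtra CfsgLib.ExtraTwo

variable {G : Type*} [Group G] [Finite G] {m : Fr G}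

namespace Prex

open CfsgLib.PComp

theorem A0_T0 : A0 ≤ T0 := pat_le (by decide) (by decide)
theorem Q0_T0 : Q0 ≤ T0 := pat_le (by decide) (by decide)
theorem t04_A0 : t 0 4 ∈ A0 := by decide +kernel
theorem t04_Q0 : t 0 4 ∈ Q0 := by decide +kernel
theorem t04_A1 : t 0 4 ∉ A1 := by decide +kernel
theorem z0_A0 : z0 ∈ A0 := by decide +kernel
theorem w0_A0 : w0 ∈ A0 := by decide +kernel
theorem w0_ne : w0 ≠ 1 := by decide +kernel
theorem zw_ne : z0 ≠ w0 := by decide +kernel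
theorem zw_Z3 : z0 * w0 ∈ Z3 := by decide +kernel
theorem zw_one : z0 * w0 ≠ 1 := by decide +kernel

omit [Finite G] in
theorem φ_ne {x : Mo} (h : x ≠ 1) : m.φ x ≠ 1 := fun e => h (m.inj (e.trans (map_one _).symm))

omit [Finite G] in
theorem es (m : Fr G) : ES m.Q m.z :=
  es_Q0.map m.φ (fun _ _ e => Or.inl (m.inj (e.trans (map_one _).symm))) (φ_ne z0_ne)

omit [Finite G] in
theorem A_sq {v : G} (hv : v ∈ m.A) : v * v = 1 := by
  obtain ⟨a, ha, rfl⟩ := hv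
  rw [← map_mul, A0_sq a ha, map_one]

omit [Finite G] in
theorem A_comm {a b : G} (ha : a ∈ m.A) (hb : b ∈ m.A) : a * b = b * a := by
  rw [eq_inv_of_mul_eq_one_left (A_sq (mul_mem ha hb)), mul_inv_rev, ← eq_inv_of_mul_eq_one_left (A_sq ha),
    ← eq_inv_of_mul_eq_one_left (A_sq hb)]

theorem norm {S : Subgroup G} (h : St m S) (hO : m.HO) :
    ∀ g : G, g * m.z = m.z * g → ∀ x ∈ m.Q, g * x * g⁻¹ ∈ m.Q := by
  have QS : m.Q ≤ S := (Fr.im_le.2 Q0_T0).trans h.le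
  have AS : m.A ≤ S := (Fr.im_le.2 A0_T0).trans h.le
  have hQH : m.Q ≤ m.H := QS.trans h.zc
  have hT : IsSylowIn 2 S m.H := h.syl.of_le h.zc le_top
  have hN : (m.Q.subgroupOf m.H).Normal := by
    refine M24R.gold (V := m.A.subgroupOf m.H) (T := S.subgroupOf m.H) ((es m).subgroupOf hQH)
      (fun h => Subtype.ext (Fr.mem_H.1 h.2)) (IsSylowIn.of_sylow_top hT.toSylow) (fun x hx => QS hx)
      (fun g x hx ht => h.strong g g.2 x hx ht) hO
      (fun v hv => mem_normalizer_of_forall fun x hx => conj_mem_of_mem_normalizer (G := G) (h.nQ (AS hv)) hx)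
      (fun v hv => Subtype.ext (A_sq hv)) (fun v hv q hq => ?_) fun q hq e => ?_
    · obtain ⟨a, ha, e1⟩ := hv
      obtain ⟨b, -, e2⟩ := hq
      refine ⟨a * (b * a⁻¹ * b⁻¹), mul_mem ha (normal_A0.conj_mem _ (inv_mem ha) b), ?_⟩
      change _ = (v : G) * q * (v : G)⁻¹ * (q : G)⁻¹
      simp only [map_mul, map_inv, e1, e2, mul_assoc]
      rfl
    · obtain ⟨b, hb, e2⟩ := hq
      replace e2 : m.φ b = q := e2
      obtain ⟨v₁, h1, v₂, h2, h3⟩ := big_A0 hb (m.inj (by rw [map_mul, e2]; exact congrArg Subtype.val e))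
      refine ⟨⟨m.φ v₁, h.zc (AS (Fr.φ_mem.2 h1))⟩, Fr.φ_mem.2 h1, ⟨m.φ v₂, h.zc (AS (Fr.φ_mem.2 h2))⟩,
        Fr.φ_mem.2 h2, fun v hv => ?_⟩
      obtain ⟨u, hu, e3⟩ : ∃ u ∈ [v₁, v₂, v₁ * v₂], m.φ u = v := by
        simp only [List.mem_cons, List.not_mem_nil, or_false] at hv ⊢
        rcases hv with rfl | rfl | rfl
        exacts [⟨_, Or.inl rfl, rfl⟩, ⟨_, Or.inr (Or.inl rfl), rfl⟩, ⟨_, Or.inr (Or.inr rfl), map_mul _ _ _⟩]
      refine ⟨fun e => (h3 u hu).1 (m.inj ?_), fun e => (h3 u hu).2 (m.inj ?_)⟩ <;>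
        simp only [map_mul, map_inv, e2, e3] <;> exact congrArg Subtype.val e
  exact fun g hg x hx => hN.conj_mem ⟨x, hQH hx⟩ hx ⟨g, Fr.mem_H.2 hg⟩

omit [Finite G] in
theorem cent_S {S : Subgroup G} (h : St m S) {x : G} (hx : x ∈ S) (hc : ∀ q ∈ m.Q, q * x = x * q) :
    x = 1 ∨ x = m.z := by
  by_cases hT : x ∈ m.T
  · obtain ⟨y, hy, rfl⟩ := hT
    refine (es m).center _ (Fr.φ_mem.2 (fai_T0 hy fun q hq => Or.inl (m.inj ?_))) hc
    simp only [map_mul, map_inv, map_one]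
    rw [hc _ (Fr.φ_mem.2 hq), mul_inv_cancel_right, mul_inv_cancel]
  · have h1 := cj_le_iff.1 (h.swap x hx hT).le _ (Fr.φ_mem.2 t04_A0)
    rw [← hc _ (Fr.φ_mem.2 t04_Q0), mul_inv_cancel_right] at h1
    exact absurd (Fr.φ_mem.1 h1) t04_A1

theorem opOf_conj (hO : m.HO) {x : G} (h : IsConj m.z x) : opOf 2 (W2.Cx x) = ⊥ := by
  obtain ⟨c, rfl⟩ := isConj_iff.1 h
  rw [← W2.cj_Cx, ← map_conj_opOf, opOf_def, hO, Subgroup.map_bot, Subgroup.map_bot]

theorem core (hO : m.HO) : pPrimeCore 2 G = ⊥ := by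
  have hi : ∀ x, IsConj z0 x → pPrimeCore 2 G ⊓ W2.Cx (m.φ x) ≤ ⊥ := fun x hx => by
    rw [inf_comm, ← opOf_conj hO (m.φ.map_isConj hx)]; exact inf_pPrimeCore_le _
  have hn : ∀ x : G, x ∈ normalizer ((pPrimeCore 2 G : Subgroup G) : Set G) := fun x => by
    rw [normalizer_eq_top]; trivial
  have c1 : IsConj z0 w0 := isConj_iff.2 ⟨n 1 2, by rw [n_inv, n_z0]⟩
  obtain ⟨k, -, hk⟩ := conj_Z3 zw_Z3 zw_one (fun e => w0_ne (mul_eq_left.1 e))
  refine le_bot_iff.1 (W2.le_of_four (a := m.z) (b := m.w) (by rw [← opOf_top]; exact W2.odd_card_opOf _)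
    (W2.ord_two (A_sq (Fr.φ_mem.2 z0_A0)) (φ_ne z0_ne)) (W2.ord_two (A_sq (Fr.φ_mem.2 w0_A0)) (φ_ne w0_ne))
    (fun e => zw_ne (m.inj e)) (A_comm (Fr.φ_mem.2 z0_A0) (Fr.φ_mem.2 w0_A0))
    (hn _) (hn _) (hi _ (IsConj.refl _)) (hi _ c1) ?_)
  rw [← map_mul]
  exact hi _ (c1.trans (isConj_iff.2 ⟨k, hk⟩).symm)

theorem A_le (h : IsSylowIn 2 m.T ⊤) (hO : m.HO) (N : Subgroup G) [hN : N.Normal] (hne : N ≠ ⊥) : m.A ≤ N := by
  have hn : ∀ x : G, x ∈ normalizer (N : Set G) := fun x => by rw [normalizer_eq_top]; trivial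
  have hs := h.inf_of_le_normalizer (N := N) fun x _ => hn x
  rw [top_inf_eq] at hs
  have h1 : m.T ⊓ N ≠ ⊥ := fun e => by
    have h2 := hs.not_dvd
    rw [e, relIndex_bot_left] at h2
    refine hne (le_bot_iff.1 ?_)
    rw [← core hO, ← opOf_top]
    exact le_opOf le_top (fun x _ => hn x) ((Nat.Prime.coprime_iff_not_dvd Nat.prime_two).2 h2).symm
  obtain ⟨x, hx, ho, hc⟩ := exists_mem_center_of_normalized h.pgroup inf_le_left
    (fun t ht => mem_normalizer_of_forall fun y hy =>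
      mem_inf.2 ⟨mul_mem (mul_mem ht hy.1) (inv_mem ht), hN.conj_mem _ hy.2 _⟩) h1
  obtain ⟨y, hy, rfl⟩ := hx.1
  have hz : z0 ∈ N.comap m.φ := by
    rcases cen_T0 (x := y) (fun a ha => m.inj (by rw [map_mul, map_mul]; exact hc _ (Fr.φ_mem.2 ha))) with e | e
    · exact absurd (by rw [e, map_one]) (W2.ne_one_of_ord ho)
    · exact e ▸ hx.2
  exact map_le_iff_le_comap.2 (irr_A0 _ hz)

end Prex

open Prex

theorem St.pre {S : Subgroup G} (h : St m S) (hO : m.HO) : Pre m.Q m.z := by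
  refine ⟨es m, fun g hg => ?_, Prex.norm h hO⟩
  have hT : IsSylowIn 2 S m.H := h.syl.of_le h.zc le_top
  have hC : centralizer (m.Q : Set G) ≤ m.H := fun c hc => Fr.mem_H.2 (hc _ (es m).mem).symm
  have hn : m.H ≤ normalizer ((centralizer (m.Q : Set G) : Subgroup G) : Set G) := fun k hh =>
    mem_normalizer_of_forall fun c hc q hq => by
      have h1 := hc _ (Prex.norm h hO k⁻¹ (Fr.mem_H.1 (inv_mem hh)) q hq)
      rw [inv_inv] at h1
      calc q * (k * c * k⁻¹) = k * (k⁻¹ * q * k * c) * k⁻¹ := by group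
        _ = k * c * k⁻¹ * q := by rw [h1]; group
  have hs := hT.inf_of_le_normalizer hn
  rw [inf_eq_right.2 hC] at hs
  have h1 := AG.sup_opr_of_central_sylow hs fun c hc x hx => by
    rcases cent_S h hx.1 hx.2 with rfl | rfl
    · simp
    · exact (Fr.mem_H.1 (hC hc)).symm
  have h2 : AG.opr 2 (centralizer (m.Q : Set G)) = ⊥ := le_bot_iff.1
    ((PComp.opOf_le_opOf_of_le_normalizer hC hn).trans (by rw [PComp.opOf_def, hO, Subgroup.map_bot]))
  rw [h2, sup_bot_eq] at h1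
  exact cent_S h (h1.ge (show g ∈ centralizer (m.Q : Set G) from hg)).1 hg

theorem Fr.red (h : IsSylowIn 2 m.T ⊤) (wc : m.WC) (hO : m.HO) : m.A.Normal ∨ IsSimpleGroup G := by
  refine or_iff_not_imp_left.2 fun hV => ?_
  have : Nontrivial G := ⟨⟨m.z, 1, φ_ne z0_ne⟩⟩
  refine ⟨fun N hN => or_iff_not_imp_left.2 fun hne => ?_⟩
  have hn : ∀ x : G, x ∈ normalizer (N : Set G) := fun x => by rw [normalizer_eq_top]; trivial
  have hVN := A_le h hO N hne
  have AT : m.A ≤ m.T := Fr.im_le.2 A0_T0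
  rcases normal_ge_A0 (N.comap m.φ) (map_le_iff_le_comap.1 hVN) with e | e
  · have h1 : ∀ x ∈ N, x ∈ m.N → x ∈ m.A := by
      rintro _ hx ⟨y, rfl⟩
      exact Fr.φ_mem.2 (e.le hx)
    have hs := h.inf_of_le_normalizer (N := N) fun x _ => hn x
    rw [top_inf_eq, show m.T ⊓ N = m.A from
      le_antisymm (fun x hx => h1 x hx.2 (Fr.im_le_N hx.1)) (le_inf AT hVN)] at hs
    have h2 : N ≤ m.A := W2.le_of_npc (W2.npc_of_burnside hs fun n hn hm x hx =>
      A_comm (h1 n hn (m.range.ge hm)) hx) hs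
      ((PComp.opOf_le_pPrimeCore hN.isSubnormal).trans (by rw [core hO]; exact bot_le)) le_rfl
    exact absurd (le_antisymm h2 hVN ▸ hN) hV
  · have h1 : m.N ≤ N := by
      rintro _ ⟨y, rfl⟩
      exact e.ge (mem_top y)
    refine eq_top_iff.2 fun g _ => ?_
    obtain ⟨n, hnN, hg⟩ := (h.of_le (Fr.im_le_N.trans h1) le_top).frattini (hn g)
    have h2 : n * g ∈ m.N := Fr.mem_N.2 (wc _ (cj_le_iff.2 fun x hx => conj_mem_of_mem_normalizer hg (AT hx)))
    simpa using mul_mem (inv_mem hnN) (h1 h2)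

end CfsgLib.L5R
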