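import Mathlib
import Cfsg.Agent.Lib.L5R.F1
import Cfsg.Agent.Lib.L5R.Inv
import Cfsg.Agent.Lib.L5R.Bas1b
import Cfsg.Agent.Lib.L5R.Bas3
import Cfsg.Agent.S2901

/-!
# the conjugates of `z` in `Q`; Holt's theorem (plans/L5R.md)
-/

set_option autoImplicit false
set_option maxHeartbeats 400000
set_option Elab.async false

namespace CfsgLib.L5R

open Subgroup Cfsg CfsgLib.Tech CfsgLib.Held CfsgLib.MOrb CfsgLib.L72 CfsgLib.LargeExtra CfsgLib.ExtraTwo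

variable {G : Type*} [Group G] [Finite G] {m : Fr G}

namespace T1

theorem T0_H0 : T0 ≤ H0 := pat_le (by decide) (by decide)
theorem Q0_Tz : Q0 ≤ Tz := pat_le (by decide) (by decide)
theorem Tz_T0 : Tz ≤ T0 := pat_le (by decide) (by decide)

theorem φ_H {x : Mo} (h : x ∈ H0) : m.φ x ∈ m.H := Fr.mem_H.2 (by rw [← map_mul, ← map_mul, mem_H0.1 h])

theorem T_H : m.T ≤ m.H := by
  rintro _ ⟨x, hx, rfl⟩
  exact φ_H (T0_H0 hx)

theorem card_Q : Nat.card m.Q = 2 ^ 13 := (Fr.card_im _).trans card_Q0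

theorem cj_Q (c : CI m) {k : G} (hk : k ∈ m.H) : cj k m.Q = m.Q :=
  mem_normalizer_iff_cj.1 (c.pre.mem_normalizer (Fr.mem_H.1 hk))

theorem nz : m.φ (n 1 2) * m.z * (m.φ (n 1 2))⁻¹ = m.w := by
  rw [← map_inv, n_inv, ← map_mul, ← map_mul, n_z0]

/-- the model part of `t1` -/
theorem S16_le {Y : Subgroup Mo} (h1 : Q0 ≤ Y) (h2 : Y ≤ T0) (sq : ∀ y ∈ Y, y * y ∈ Q0)
    (hc : 2 ^ 18 ≤ Nat.card Y) : S16 ≤ Y := by
  have k1 := card_mul_relIndex' Tz_T0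
  rw [card_Tz, card_T0] at k1
  have k2 : Tz.relIndex Y ≤ 2 := (relIndex_le_of_le_right h2 (by omega)).trans (by omega)
  have k3 := card_mul_relIndex' (inf_le_right : Tz ⊓ Y ≤ Y)
  rw [inf_relIndex_right] at k3
  have k4 := card_mul_relIndex' (le_inf Q0_Tz h1)
  obtain ⟨k5, k6⟩ := f1d (le_inf Q0_Tz h1) inf_le_left fun y hy => sq y hy.2
  rw [card_Q0] at k4
  have k7 := Nat.mul_le_mul_left (Nat.card (Tz ⊓ Y : Subgroup Mo)) k2
  exact (k6 (by omega)).ge.trans inf_le_right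

theorem t1' (c : CI m) {g : G} (h : g * m.z * g⁻¹ ∈ m.Q) (hne : g * m.z * g⁻¹ ≠ m.z)
    (hT : cj g m.Q ⊓ m.H ≤ m.T) : ∃ k ∈ m.H, k * (g * m.z * g⁻¹) * k⁻¹ = m.w := by
  have p := c.pre.pair (by rw [card_Q]; norm_num) h hne
  have k1 := p.card_Q1
  have k2 := p.card_E_sq_le
  change Nat.card (cj g m.Q) = 2 * Nat.card (cj g m.Q ⊓ m.H : Subgroup G) at k1
  change Nat.card (m.Q ⊓ cj g m.Q : Subgroup G) * Nat.card (m.Q ⊓ cj g m.Q : Subgroup G) ≤ _ at k2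
  have e1 : ES (cj g m.Q) (g * m.z * g⁻¹) := p.h1.es
  rw [card_cj, card_Q] at k1
  rw [card_Q] at k2
  generalize cj g m.Q = Q1 at *
  generalize g * m.z * g⁻¹ = u at *
  have hn : Q1 ⊓ m.H ≤ normalizer (m.Q : Set G) := fun x hx => c.pre.mem_normalizer (Fr.mem_H.1 hx.2)
  have k3 := Core.card_sup_mul_card_inf_of_le_normalizer hn
  have k4 : Nat.card (Q1 ⊓ m.H ⊓ m.Q : Subgroup G) ≤ 2 ^ 7 := by
    refine (card_le_of_le (le_inf inf_le_right (inf_le_left.trans inf_le_left))).trans ?_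
    exact Nat.mul_self_le_mul_self_iff.1 (k2.trans (by norm_num))
  have QT : m.Q ≤ m.T := Fr.im_le.2 (Q0_Tz.trans Tz_T0)
  have YT : Q1 ⊓ m.H ⊔ m.Q ≤ m.T := sup_le hT QT
  have eY := Fr.im_comap (m := m) (YT.trans Fr.im_le_N)
  have k5 : 2 ^ 18 ≤ Nat.card (Q1 ⊓ m.H ⊔ m.Q : Subgroup G) := by
    rw [card_Q] at k3
    have := Nat.mul_le_mul_left (Nat.card (Q1 ⊓ m.H ⊔ m.Q : Subgroup G)) k4
    omega
  have k6 := S16_le (Y := (Q1 ⊓ m.H ⊔ m.Q).comap m.φ) (fun x hx => mem_sup_right (Fr.φ_mem.2 hx))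
    (fun x hx => Fr.φ_mem.1 (YT hx)) (fun y hy => by
      obtain ⟨x, hx, q, hq, e⟩ := (Core.mem_sup_of_le_normalizer_right hn).1 hy
      rw [← Fr.φ_mem (m := m), map_mul, ← e, show x * q * (x * q) = x * x * (x⁻¹ * q * x) * q by group]
      refine mul_mem (mul_mem ?_ (conj_mem_of_mem_normalizer' (hn hx) hq)) hq
      rcases e1.sq hx.1 with e | e <;> rw [e]
      exacts [one_mem _, h]) (by rwa [← Fr.card_im (m := m), eY])
  obtain ⟨u, hu, rfl⟩ := h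
  have k7 : u ∈ Z3 := by
    rw [← SetLike.mem_coe, ← f1e]
    refine ⟨hu, fun y hy => ?_⟩
    obtain ⟨x, hx, q, hq, e⟩ := (Core.mem_sup_of_le_normalizer_right hn).1 (k6 hy)
    rw [← Fr.φ_eq (m := m), ← Fr.φ_eq (m := m), map_one]
    simp only [map_mul, map_inv]
    have e2 : m.φ u * (x * q) * (m.φ u)⁻¹ * (x * q)⁻¹ = x * (m.φ u * q * (m.φ u)⁻¹ * q⁻¹) * x⁻¹ := by
      rw [← mul_assoc (m.φ u), ← e1.comm_z x hx.1]; group
    rw [← e, e2]
    rcases c.pre.es.commutator (Fr.φ_mem.2 hu) hq with k | k <;> rw [k]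
    · exact .inl (by simp)
    · exact .inr (by rw [Fr.mem_H.1 hx.2]; simp)
  obtain ⟨k, hk, e⟩ := conj_Z3 k7 (fun e => e1.ne_one (by rw [e, map_one])) fun e => hne (by rw [e])
  exact ⟨m.φ k, φ_H hk, by rw [← map_inv, ← map_mul, ← map_mul, e]⟩

end T1

theorem CI.t1 (c : CI m) {g : G} (h : g * m.z * g⁻¹ ∈ m.Q) (hne : g * m.z * g⁻¹ ≠ m.z) :
    ∃ k ∈ m.H, k * (g * m.z * g⁻¹) * k⁻¹ = m.w := by
  have := Fact.mk Nat.prime_two
  obtain ⟨k, hk, le⟩ := (c.syl.of_le T1.T_H le_top).exists_cj_le (Q := cj g m.Q ⊓ m.H)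
    ((isPGroup_cj g c.pre.es.isPGroup).to_le inf_le_left) inf_le_right
  have e : k * g * m.z * (k * g)⁻¹ = k * (g * m.z * g⁻¹) * k⁻¹ := by group
  obtain ⟨k', hk', e'⟩ := T1.t1' c (g := k * g) (e ▸ c.pre.norm k (Fr.mem_H.1 hk) _ h)
    (fun k1 => hne (by
      rw [e, mul_inv_eq_iff_eq_mul, ← Fr.mem_H.1 hk] at k1
      exact mul_left_cancel k1))
    (by rwa [cj_inf, ← cj_mul, cj_eq_of_mem hk] at le)
  exact ⟨k' * k, mul_mem hk' hk, by rw [← e']; group⟩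

theorem CI.cj_eq (c : CI m) {g k : G} (h : g * m.z * g⁻¹ = k * m.z * k⁻¹) : cj g m.Q = cj k m.Q := by
  have : k⁻¹ * g ∈ m.H := Fr.mem_H.2 (by
    calc _ = k⁻¹ * (g * m.z * g⁻¹) * g := by group
      _ = _ := by rw [h]; group)
  rw [← T1.cj_Q c this, ← cj_mul, ← cj_mul, mul_inv_cancel_left]
  conv_lhs => rw [cj_mul, T1.cj_Q c this]

theorem CI.card_inf (c : CI m) {g : G} (h : g * m.z * g⁻¹ ∈ m.Q) (hne : g * m.z * g⁻¹ ≠ m.z) :
    Nat.card (m.Q ⊓ cj g m.Q : Subgroup G) = 2 ^ 7 := by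
  obtain ⟨k, hk, e⟩ := c.t1 h hne
  rw [← card_cj k, cj_inf, T1.cj_Q c hk, ← cj_mul, c.cj_eq (k := m.φ (n 1 2)) (by rw [T1.nz, ← e]; group),
    Fr.cj_im, ← Qw_eq, ← map_inf _ _ _ m.inj, ← Uw_eq, ← card_Uw]
  exact Fr.card_im _

theorem CI.holt [IsSimpleGroup G] (c : CI m) {P : Subgroup G} (h1 : m.N ≤ P) (h2 : m.H ≤ P) : P = ⊤ := by
  have := Fact.mk Nat.prime_two
  by_contra hP
  have es := c.pre.es
  have φP : ∀ x, m.φ x ∈ P := fun x => h1 ⟨x, rfl⟩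
  have hna : ¬ IsMulCommutative G := fun h => by
    obtain ⟨x, -, y, -, e⟩ := es.nonab
    exact e (h.1.1 x y)
  rcases Cfsg.Agent.S2901.result hna P hP m.z (φP _) ⟨es.orderOf_eq, c.syl.toSylowTop,
    Fr.φ_mem.2 (T1.Tz_T0 (T1.Q0_Tz es_Q0.mem)), fun x hx => Fr.mem_H.1 (T1.T_H hx)⟩ h2 (fun g hg => by
      have gg : g * m.z * g⁻¹ * (g * m.z * g⁻¹) = 1 := by rw [conj_mul, es.mul_self]; simp
      obtain ⟨p, hp, x, hx, e⟩ := (c.syl.of_le (Fr.im_le_N.trans h1) le_top).exists_conj_mem hg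
        (isPGroup_zpowers_of_pow (k := 1) (by rw [pow_one, sq, gg]))
      obtain ⟨k, hk⟩ := inv_Q0 (x := x) (m.inj (by rw [map_mul, e, conj_mul, gg]; simp))
      have e1 : m.φ k * p * g * m.z * (m.φ k * p * g)⁻¹ = m.φ (k * x * k⁻¹) := by
        rw [map_mul, map_mul, map_inv, e]; group
      by_cases e2 : m.φ k * p * g * m.z * (m.φ k * p * g)⁻¹ = m.z
      · exact ⟨(m.φ k * p)⁻¹, inv_mem (mul_mem (φP k) hp), by nth_rewrite 1 [← e2]; group⟩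
      · obtain ⟨l, hl, e3⟩ := c.t1 (e1 ▸ Fr.φ_mem.2 hk) e2
        refine ⟨(l * m.φ k * p)⁻¹ * m.φ (n 1 2),
          mul_mem (inv_mem (mul_mem (mul_mem (h2 hl) (φP k)) hp)) (φP _), ?_⟩
        calc _ = (l * m.φ k * p)⁻¹ * (m.φ (n 1 2) * m.z * (m.φ (n 1 2))⁻¹) * (l * m.φ k * p) := by group
          _ = _ := by rw [T1.nz, ← e3]; group) with ⟨-, S, rfl⟩ | ⟨k, hk, ⟨e⟩, -⟩
  · have key : ∀ i j, m.φ (e i j) ∈ (S : Subgroup G) := fun i j =>
      zpowers_le.1 ((IsSylowIn.of_sylow_top S).le_of_normalizes (isPGroup_zpowers_of_pow (k := 1)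
        (by rw [pow_one, sq, ← map_mul, e_sq, map_one])) le_top (zpowers_le.2 (φP _)))
    obtain ⟨l, hl⟩ := isPGroup_iff_mem.1 S.isPGroup' _ (mul_mem (key 0 1) (key 1 0))
    rw [← map_mul, ← map_pow, ← map_one m.φ, Fr.φ_eq] at hl
    have : d0 = 1 := by
      have := pow_gcd_eq_one.2 ⟨hl, d0_three⟩
      rwa [Nat.Coprime.gcd_eq_one (Nat.Coprime.pow_left _ (by norm_num)), pow_one] at this
    exact d0_not (by rw [this, mul_one]; exact one_mem _)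
  · have : Nontrivial (Fin k) := Fin.nontrivial_iff_two_le.2 (by omega)
    have k1 := two_mul_nat_card_alternatingGroup (α := Fin k)
    rw [← Nat.card_congr e.toEquiv, Nat.card_perm, Nat.card_fin] at k1
    have k2 : 31 ∣ k.factorial := by
      have := card_dvd_of_injective m.φ m.inj
      rw [card_Mo] at this
      exact k1 ▸ (Dvd.dvd.trans (by norm_num) this).mul_left 2
    have k3 : 2 ^ 22 ∣ 2 * Nat.card G := k1 ▸ Dvd.dvd.trans (by decide +kernel)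
      (Nat.factorial_dvd_factorial ((Nat.Prime.dvd_factorial (by norm_num)).1 k2))
    obtain ⟨R, hR⟩ := Sylow.exists_subgroup_card_pow_prime (G := G) 2 (n := 21)
      (Nat.dvd_of_mul_dvd_mul_left two_pos (by rwa [← pow_succ']))
    have := c.syl.card_le (IsPGroup.of_card hR) le_top
    rw [hR, Fr.card_im, card_T0] at this
    omega


end CfsgLib.L5R
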