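import Mathlib
import Cfsg.Agent.Lib.L5R.T1
import Cfsg.Agent.Lib.L5R.Psm

/-!
# the action of `Y` on `Uw / Z3` (plans/L5R.md)
-/

set_option autoImplicit false
set_option maxHeartbeats 400000
set_option Elab.async false

namespace CfsgLib.L5R

open Subgroup Cfsg CfsgLib.Tech CfsgLib.Held CfsgLib.MOrb CfsgLib.L72 CfsgLib.LargeExtra CfsgLib.ExtraTwo

variable {G : Type*} [Group G] [Finite G] {m : Fr G}

namespace PsiF

/-- the conjugate representatives -/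
def mv (v : Fin 4 → ZMod 2) : Mo := n 0 1 * mu v * n 0 1

theorem vv (v : Fin 4 → ZMod 2) : v + v = 0 := by ext i; exact CharTwo.add_self_eq_zero _

theorem eq_of_add {u v : Fin 4 → ZMod 2} (h : u + v = 0) : u = v := by
  rw [← add_zero u, ← vv v, ← add_assoc, h, zero_add]

theorem mu_sq (v : Fin 4 → ZMod 2) : mu v * mu v = 1 := by rw [← mu_add, vv]; simp [mu]

theorem mv_add (u v : Fin 4 → ZMod 2) : mv (u + v) = mv u * mv v := by
  rw [mv, mu_add, show mv u * mv v = n 0 1 * mu u * (n 0 1 * n 0 1) * mu v * n 0 1 by simp only [mv, mul_assoc], n_sq]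
  simp only [mul_assoc, mul_one]

theorem mv_sq (v : Fin 4 → ZMod 2) : mv v * mv v = 1 := by rw [← mv_add, vv]; simp [mv, mu, n_sq]

theorem nZ {x ζ : Mo} (hx : x ∈ [e 1 2, e 2 1, n 0 1]) (h : ζ ∈ Z3) : x * ζ * x⁻¹ ∈ Z3 := by
  obtain ⟨c, hc⟩ := exists_cd ζ
  have key : ∀ {s : ℕ}, Cd x s → x⁻¹ = x →
      lp [1, 2, 7] (fun c => inM 0x3ffffff8c6318 (mulC (mulC s c) s)) = true → x * ζ * x⁻¹ ∈ Z3 :=
    fun hs e hf => by rw [e]; exact ((hs.mul hc).mul hs).mem_Z3.2 (hc.lp_Z3 h hf)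
  simp only [List.mem_cons, List.not_mem_nil, or_false] at hx
  rcases hx with rfl | rfl | rfl
  · exact key (cd_e (by decide)) (e_inv _ _) (by decide +kernel)
  · exact key (cd_e (by decide)) (e_inv _ _) (by decide +kernel)
  · exact key (cd_n (by decide)) (n_inv _ _) (by decide +kernel)

theorem mu_c {ζ : Mo} (h : ζ ∈ Z3) (v : Fin 4 → ZMod 2) : ζ * mu v = mu v * ζ :=
  mem_Y0.1 ((pat_le (by decide) (by decide) : Uw ≤ Y0) (mem_Uw.2 ⟨v, 1, one_mem _, (mul_one _).symm⟩)) ζ h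

theorem mv_c {ζ : Mo} (h : ζ ∈ Z3) (v : Fin 4 → ZMod 2) : ζ * mv v = mv v * ζ := by
  have := Commute.conj (show Commute _ _ from mu_c (nZ (x := n 0 1) (by simp) h) v) (n 0 1)⁻¹
  rwa [show (n 0 1)⁻¹ * (n 0 1 * ζ * (n 0 1)⁻¹) * (n 0 1)⁻¹⁻¹ = ζ by group, inv_inv, n_inv] at this

theorem Z_c {a b : Mo} (ha : a ∈ Z3) (hb : b ∈ Z3) : a * b = b * a :=
  mem_Y0.1 ((pat_le (by decide) (by decide) : Z3 ≤ Y0) hb) a ha

omit [Finite G] in
theorem fixZ (y : m.Y) {ζ : Mo} (h : ζ ∈ Z3) : (y : G) * m.φ ζ * (y : G)⁻¹ = m.φ ζ := by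
  rw [← y.2 _ (Fr.φ_mem.2 h), mul_inv_cancel_right]

/-- `y` maps `a` to `b` modulo `Z3` -/
def R (m : Fr G) (y : G) (a b : Mo) : Prop := ∃ ζ ∈ Z3, y * m.φ a * y⁻¹ = m.φ (b * ζ)

omit [Finite G] in
theorem R.mul {y : G} {a b a' b' : Mo} (h : R m y a b) (h' : R m y a' b') (c : ∀ ζ ∈ Z3, ζ * b' = b' * ζ) :
    R m y (a * a') (b * b') := by
  obtain ⟨ζ, hζ, e⟩ := h
  obtain ⟨ζ', hζ', e'⟩ := h'
  refine ⟨ζ * ζ', mul_mem hζ hζ', ?_⟩
  rw [map_mul, ← conj_mul, e, e', ← map_mul, mul_assoc b ζ, ← mul_assoc ζ, c ζ hζ]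
  simp only [mul_assoc]

omit [Finite G] in
theorem R.one (y : m.Y) {ζ : Mo} (h : ζ ∈ Z3) : R m y ζ ζ := ⟨1, one_mem _, by rw [fixZ y h, mul_one]⟩

omit [Finite G] in
theorem R.div {y : G} {a b b' : Mo} (h : R m y a b) (h' : R m y a b') : ∃ ζ ∈ Z3, b = b' * ζ := by
  obtain ⟨ζ, hζ, e⟩ := h
  obtain ⟨ζ', hζ', e'⟩ := h'
  exact ⟨ζ' * ζ⁻¹, mul_mem hζ' (inv_mem hζ), by rw [← mul_assoc, ← m.inj (e.symm.trans e'), mul_inv_cancel_right]⟩

omit [Finite G] in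
theorem R.uniq {y : G} {a : Mo} {u v : Fin 4 → ZMod 2} (h : R m y a (mu u)) (h' : R m y a (mu v)) : u = v := by
  obtain ⟨ζ, hζ, e⟩ := h.div h'
  exact (eq_of_add (mu_inj (by rwa [mu_add, e, ← mul_assoc, mu_sq, one_mul]))).symm

omit [Finite G] in
theorem mat_eq {y : G} {M M' : Matrix (Fin 4) (Fin 4) (ZMod 2)} (h : ∀ v, R m y (mu v) (mu (M.mulVec v)))
    (h' : ∀ v, R m y (mu v) (mu (M'.mulVec v))) : M = M' :=
  Matrix.toLin'.injective (LinearMap.ext fun v => (h v).uniq (h' v))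

omit [Finite G] in
theorem R.comp (y : m.Y) {y' : G} {a b c : Mo} (h : R m y b c) (h' : R m y' a b) : R m (y * y') a c := by
  obtain ⟨ζ, hζ, e⟩ := h
  obtain ⟨ζ', hζ', e'⟩ := h'
  refine ⟨ζ * ζ', mul_mem hζ hζ', ?_⟩
  rw [show (y : G) * y' * m.φ a * (y * y')⁻¹ = y * (y' * m.φ a * y'⁻¹) * (y : G)⁻¹ by group, e', map_mul, ← conj_mul, e,
    fixZ y hζ', ← map_mul, mul_assoc]

omit [Finite G] in
theorem R.of_mo {x a b : Mo} (h : x * a * x⁻¹ * b ∈ Z3) (hb : b * b = 1) (c : ∀ ζ ∈ Z3, ζ * b = b * ζ) :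
    R m (m.φ x) a b :=
  ⟨_, h, by rw [← c _ h, mul_assoc _ b b, hb, mul_one, map_mul, map_mul, map_inv]⟩

omit [Finite G] in
theorem trk (c : CI m) (y : m.Y) {x : Mo} (hx : x * z0 * x⁻¹ ∈ Z3) {f : (Fin 4 → ZMod 2) → Mo}
    (h : ∀ {q}, q ∈ Q0 ⊓ cj x Q0 ↔ ∃ v, ∃ ζ ∈ Z3, q = f v * ζ) (v : Fin 4 → ZMod 2) : ∃ v', R m y (f v) (f v') := by
  have h1 := h.2 ⟨v, 1, one_mem _, (mul_one _).symm⟩
  obtain ⟨q, hq, e⟩ := c.pre.norm y (y.2 _ (Fr.φ_mem.2 (by decide +kernel))).symm _ (Fr.φ_mem.2 h1.1)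
  have h2 : (y : G) * m.φ (f v) * (y : G)⁻¹ ∈ cj (m.φ x) m.Q := (c.pre.conj (m.φ x)).norm y (by
    rw [← map_inv, ← map_mul, ← map_mul]; exact (y.2 _ (Fr.φ_mem.2 hx)).symm) _ (by
      change _ ∈ cj (m.φ x) m.Q
      rw [Fr.cj_im]; exact Fr.φ_mem.2 h1.2)
  rw [Fr.cj_im, ← e] at h2
  obtain ⟨v', ζ, hζ, e'⟩ := h.1 ⟨hq, Fr.φ_mem.1 h2⟩
  exact ⟨v', ζ, hζ, by rw [← e, e']⟩

omit [Finite G] in
theorem can {a b c d ζ : G} (e : a * b = c * d * ζ) (h1 : c * c = 1) (h2 : d * d = 1) (h3 : ζ * d = d * ζ) :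
    c * a * (b * d) = ζ := by
  rw [mul_assoc, ← mul_assoc a, e, mul_assoc _ ζ, h3, mul_assoc c, ← mul_assoc c, h1, one_mul, ← mul_assoc, h2, one_mul]

omit [Finite G] in
theorem ex1 (c : CI m) (y : m.Y) (v : Fin 4 → ZMod 2) : ∃ v', R m y (mu v) (mu v') :=
  trk c y (x := n 1 2) (by rw [n_inv, n_z0]; decide +kernel) (f := mu) (by rw [← Qw_eq, ← Uw_eq]; exact mem_Uw) v

omit [Finite G] in
theorem ex2 (c : CI m) (y : m.Y) (v : Fin 4 → ZMod 2) : ∃ v', R m y (mv v) (mv v') :=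
  trk c y (x := n 0 2) (by rw [n02_z0]; decide +kernel) (f := mv) (by simp only [mv]; exact mem_Ur) v

omit [Finite G] in
theorem ex3 (c : CI m) (y : m.Y) (v : Fin 4 → ZMod 2) : ∃ v', R m y (mu v * mv v) (mu v' * mv v') :=
  trk c y (x := e 0 1 * n 0 2) (by rw [← InvF.cj_cj, n02_z0, e01_r0]; decide +kernel) (f := fun v => mu v * mv v)
    (by simp only [mv]; exact mem_Ud) v

omit [Finite G] in
theorem ex4 (c : CI m) (y : m.Y) {v v' : Fin 4 → ZMod 2} (h : R m y (mu v) (mu v')) : R m y (mv v) (mv v') := by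
  obtain ⟨u, hu⟩ := ex2 c y v
  obtain ⟨w, hw⟩ := ex3 c y v
  obtain ⟨ζ, hζ, e⟩ := (h.mul hu fun ζ h => mv_c h _).div hw
  have k : mu (w + v') * mv (u + w) ∈ Z3 := by
    rw [mu_add, mv_add, can e (mu_sq w) (mv_sq w) (mv_c hζ w)]
    exact hζ
  rw [mv] at k
  obtain ⟨e1, e2⟩ := mu_indep k
  rw [← eq_of_add e1, ← eq_of_add e2]
  exact hu

omit [Finite G] in
theorem ex (c : CI m) (y : m.Y) : ∃ M : Matrix (Fin 4) (Fin 4) (ZMod 2),
    ∀ v, R m y (mu v) (mu (M.mulVec v)) ∧ R m y (mv v) (mv (M.mulVec v)) := by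
  choose f hf using ex1 c y
  have fa : ∀ u v, f (u + v) = f u + f v := fun u v => (hf _).uniq (by
    rw [mu_add, mu_add]; exact (hf u).mul (hf v) fun ζ h => mu_c h _)
  refine ⟨LinearMap.toMatrix' ((AddMonoidHom.mk' f fa).toZModLinearMap 2), fun v => ?_⟩
  rw [LinearMap.toMatrix'_mulVec, show ((AddMonoidHom.mk' f fa).toZModLinearMap 2) v = f v from rfl]
  exact ⟨hf v, ex4 c y (hf v)⟩

omit [Finite G] in
theorem R.comm {y : G} {a b a' b' : Mo} (h : R m y a b) (h' : R m y a' b') (c : ∀ ζ ∈ Z3, ζ * b = b * ζ)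
    (c' : ∀ ζ ∈ Z3, ζ * b' = b' * ζ) : b * b' = b' * b ↔ a * a' = a' * a := by
  obtain ⟨ζ, hζ, e⟩ := h
  obtain ⟨ζ', hζ', e'⟩ := h'
  rw [← Fr.φ_eq (m := m) (x := a * a'), ← mul_right_inj y, ← mul_left_inj y⁻¹, map_mul, map_mul, ← conj_mul, ← conj_mul, e, e', ← map_mul, ← map_mul, Fr.φ_eq, mul_assoc b, ← mul_assoc ζ, c' ζ hζ, mul_assoc b' ζ',
    ← mul_assoc ζ', c ζ' hζ', mul_assoc b ζ', Z_c hζ' hζ, mul_assoc b' ζ, ← mul_assoc b, ← mul_assoc b', mul_left_inj]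

omit [Finite G] in
theorem pow8 (c : CI m) (y : m.Y) (h : ∀ v, R m y (mu v) (mu v) ∧ R m y (mv v) (mv v)) : (y : G) ^ 2 ^ 3 = 1 := by
  have QT : Q0 ≤ T0 := pat_le (by decide) (by decide)
  have ZQ : Z3 ≤ Q0 := pat_le (by decide) (by decide)
  have h2 : ∀ q ∈ Q0, q ∈ Y0 → R m y q q := fun q hq hY => by
    obtain ⟨u, v, ζ, hζ, rfl⟩ := cen_Z3 hq hY
    exact ((h u).1.mul (h v).2 fun ζ h => mv_c h _).mul (R.one y hζ) fun _ h => Z_c h hζ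
  have h3 : ∀ q ∈ Q0, R m (y * y) q q := fun q hq => by
    obtain ⟨q', hq', e⟩ := c.pre.norm y (y.2 _ (Fr.φ_mem.2 (by decide +kernel))).symm _ (Fr.φ_mem.2 hq)
    have k1 : q⁻¹ * q' ∈ Q0 := mul_mem (inv_mem hq) hq'
    have k2 : q⁻¹ * q' ∈ Y0 := mem_Y0.2 fun a ha => by
      have k := fixZ y (conj_mem_of_mem_normalizer (T0_norm_Z3 (QT hq)) ha)
      rw [map_mul, map_mul, map_inv, ← conj_mul, ← conj_mul, ← conj_inv, ← e, fixZ y ha, ← map_inv, ← map_inv,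
        ← map_mul, ← map_mul, ← map_mul, ← map_mul, Fr.φ_eq] at k
      calc a * (q⁻¹ * q') = q⁻¹ * (q * a * q⁻¹) * q' := by group
        _ = _ := by rw [← k]; group
    obtain ⟨ζ, hζ, e'⟩ := h2 _ k1 k2
    refine ⟨q⁻¹ * q' * (q⁻¹ * q') * ζ, mul_mem ?_ hζ, ?_⟩
    · rcases es_Q0.sq k1 with k | k <;> rw [k]
      exacts [one_mem _, by decide +kernel]
    · rw [show (y : G) * y * m.φ q * ((y : G) * y)⁻¹ = y * (y * m.φ q * (y : G)⁻¹) * (y : G)⁻¹ by group, ← e,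
        ← mul_inv_cancel_left (m.φ q) (m.φ q'), ← map_inv, ← map_mul _ q⁻¹, ← conj_mul, ← e, e', ← map_mul]
      simp only [mul_assoc, mul_inv_cancel_left]
  have h4 := c.pre.cent (y * y * (y * y)) (by
    rintro _ ⟨q, hq, rfl⟩
    obtain ⟨ζ, hζ, e⟩ := h3 q hq
    have k := fixZ (y * y) hζ
    rw [coe_mul] at k
    rw [eq_comm, ← mul_inv_eq_iff_eq_mul, show (y : G) * y * (y * y) * m.φ q * ((y : G) * y * (y * y))⁻¹ =
      y * y * (y * y * m.φ q * ((y : G) * y)⁻¹) * ((y : G) * y)⁻¹ by group, e, map_mul, ← conj_mul, e, k, ← map_mul,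
      mul_assoc, A0_sq ζ ((pat_le (by decide) (by decide) : Z3 ≤ A0) hζ), mul_one])
  rw [show (y : G) ^ 2 ^ 3 = y * y * (y * y) * (y * y * (y * y)) by
    simp only [show 2 ^ 3 = 8 from rfl, pow_succ, pow_zero, one_mul, mul_assoc]]
  rcases h4 with k | k <;> rw [k]
  exacts [mul_one _, c.pre.es.mul_self]

end PsiF

open PsiF

theorem CI.psi (c : CI m) : ∃ ψ, Psi m ψ := by
  have := Fact.mk Nat.prime_two
  choose M hM using ex c
  let ψ : m.Y →* GN 4 := MonoidHom.toHomUnits ⟨⟨M, mat_eq (fun v => (hM _ v).1) fun v =>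
    ⟨1, one_mem _, by simp⟩⟩, fun a b => mat_eq (fun v => (hM _ v).1) fun v => by
      rw [← Matrix.mulVec_mulVec]; exact (hM a _).1.comp a (hM b v).1⟩
  have e : ∀ y, (ψ y).1 = M y := fun _ => rfl
  have k1 : ∀ y, ψ y = 1 → ∀ v, R m y (mu v) (mu v) ∧ R m y (mv v) (mv v) := fun y h v => by
    simpa [← e, h] using hM y v
  refine ⟨ψ, fun y v => (hM y v).1, fun y v => (hM y v).2, fun y => ⟨fun h => ?_, ?_⟩, fun y u v => ?_⟩
  · have hT : m.T ≤ normalizer (m.im Z3 : Set G) := by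
      rintro _ ⟨x, hx, rfl⟩
      rw [mem_normalizer_iff_cj, Fr.cj_im, mem_normalizer_iff_cj.1 (T0_norm_Z3 hx)]
    have hS := (c.syl.of_le hT le_top).inf_of_le_normalizer (N := m.Y) fun g hg => by
      rw [mem_normalizer_iff_cj, cj_centralizer, mem_normalizer_iff_cj.1 hg]
    obtain ⟨x, hx, e'⟩ := (hS.le_of_le_normalizer (Q := ψ.ker.map m.Y.subtype) (isPGroup_iff_mem.2 (by
      rintro _ ⟨y, hy, rfl⟩; exact ⟨3, pow8 c y (k1 y hy)⟩)) (by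
        rintro _ ⟨y, -, rfl⟩; exact ⟨centralizer_le_normalizer _ y.2, y.2⟩) (fun g hg => mem_normalizer_of_forall (by
          rintro _ ⟨y, hy, rfl⟩
          exact ⟨_, (inferInstance : ψ.ker.Normal).conj_mem y hy ⟨g, hg.2⟩, rfl⟩)) ⟨y, h, rfl⟩).1
    refine ⟨x, F0_mu (F0_eq ▸ ⟨hx, mem_Y0.2 fun a ha => m.inj ?_⟩) fun v => ?_, e'⟩
    · rw [map_mul, map_mul, e']; exact y.2 _ (Fr.φ_mem.2 ha)
    · obtain ⟨ζ, hζ, k⟩ := (k1 y h v).1
      change m.φ x = y at e'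
      rw [← e', ← map_inv, ← map_mul, ← map_mul, Fr.φ_eq] at k
      rwa [k, ← mu_c hζ, mul_assoc, mu_sq, mul_one]
  · rintro ⟨x, hx, e'⟩
    refine Units.ext (mat_eq (fun v => (hM y v).1) fun v => ?_)
    rw [Units.val_one, Matrix.one_mulVec, ← e']
    exact R.of_mo (D0_mu hx v) (mu_sq v) fun _ h => mu_c h v
  · have := (hM y u).1.comm (hM y v).2 (fun _ h => mu_c h _) fun _ h => mv_c h _
    rw [mv, mv, mu_comm, mu_comm] at this
    rw [e]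
    revert this
    generalize B4 _ _ = a, B4 u v = b
    revert a b; decide

omit [Finite G] in
theorem Psi.val {ψ : m.Y →* GN 4} (p : Psi m ψ) (y : m.Y) : ((y : G) = m.φ (e 3 4) → ψ y = pa3) ∧
    ((y : G) = m.φ (t 3 4) → ψ y = pa4) ∧ ((y : G) = m.φ (n 3 4) → ψ y = pn3) := by
  have key : ∀ (x : Mo) (g : GN 4), (∀ v, x * mu v * x⁻¹ * mu (g.1.mulVec v) ∈ Z3) → (y : G) = m.φ x → ψ y = g :=
    fun x g h e => Units.ext (mat_eq (p.act y) fun v => e ▸ R.of_mo (h v) (mu_sq _) fun _ h => mu_c h _)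
  refine ⟨key _ _ fun v => ?_, key _ _ fun v => ?_, key _ _ fun v => ?_⟩
  · rw [e_inv, (mu_val v).1, mu_sq]; exact one_mem _
  · rw [t_inv]; exact (mu_val v).2.1
  · rw [n_inv, (mu_val v).2.2, mu_sq]; exact one_mem _

omit [Finite G] in
theorem Psi.cj {ψ : m.Y →* GN 4} (p : Psi m ψ) {x : Mo} (hx : x ∈ [e 1 2, e 2 1, n 0 1]) (y y' : m.Y)
    (h : (y' : G) = m.φ x * y * (m.φ x)⁻¹) : ψ y' = ψ y := by
  refine Units.ext (mat_eq (p.act y') fun v => ?_)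
  have key : ∀ {f : (Fin 4 → ZMod 2) → Mo}, (∀ v, mu v = x * f v * x⁻¹) → R m y (f v) (f ((ψ y).1.mulVec v)) →
      R m y' (mu v) (mu ((ψ y).1.mulVec v)) := fun hf ⟨ζ, hζ, e⟩ => ⟨_, nZ hx hζ, by
    rw [h, hf, hf, conj_mul, map_mul, map_mul, map_mul _ (x * _), map_mul _ x, ← e, map_inv]; group⟩
  by_cases h1 : x ∈ [e 1 2, e 2 1]
  · exact key (fun v => by rw [L_mu h1, mul_inv_cancel_right]) (p.act y v)
  obtain rfl : x = n 0 1 := by simpa [not_or.1 (by simpa using h1 : ¬ (x = e 1 2 ∨ x = e 2 1))] using hx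
  refine key (f := mv) (fun v => ?_) (p.act' y v)
  rw [mv, ← mul_assoc, ← mul_assoc, n_sq, one_mul, mul_inv_cancel_right]


end CfsgLib.L5R
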