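import Mathlib
import Cfsg.Agent.Lib.L5R.Psi
import Cfsg.Agent.Lib.L5R.Sp4

/-!
# the structure of `Y / D` (plans/L5R.md)
-/

set_option autoImplicit false
set_option maxHeartbeats 400000
set_option Elab.async false

namespace CfsgLib.L5R

open Subgroup Cfsg CfsgLib.Tech CfsgLib.Held CfsgLib.MOrb CfsgLib.L72 CfsgLib.LargeExtra CfsgLib.ExtraTwo

variable {G : Type*} [Group G] [Finite G] {m : Fr G}

namespace T3a

omit [Finite G] in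
theorem φ_mem_Y {x : Mo} : m.φ x ∈ m.Y ↔ x ∈ Y0 := by
  rw [mem_Y0, mem_centralizer_iff]
  refine ⟨fun h a ha => m.inj ?_, ?_⟩
  · rw [map_mul, map_mul]
    exact h _ ⟨a, ha, rfl⟩
  · rintro h _ ⟨a, ha, rfl⟩
    rw [← map_mul, ← map_mul, h a ha]

theorem e_Y0 : e 3 4 ∈ Y0 := (cd_e (by decide)).mem_Y0.2 (by decide +kernel)
theorem t_Y0 : t 3 4 ∈ Y0 := (cd_t (by decide)).mem_Y0.2 (by decide +kernel)
theorem n_Y0 : n 3 4 ∈ Y0 := (cd_n (by decide)).mem_Y0.2 (by decide +kernel)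

theorem et_sq : e 3 4 * t 3 4 * (e 3 4 * t 3 4) = 1 :=
  (((cd_e (by decide)).mul (cd_t (by decide))).mul ((cd_e (by decide)).mul (cd_t (by decide)))).eq_one.2
    (by decide +kernel)

omit [Finite G] in
/-- `D12` lies in the image of `Y ⊓ N` -/
theorem D12_le {ψ : m.Y →* GN 4} (p : Psi m ψ) {K : Subgroup G} (hK : m.N ≤ K) :
    D12 ≤ (K.subgroupOf m.Y).map ψ := by
  rw [D12, closure_le]
  rintro _ (rfl | rfl | rfl)
  · exact ⟨⟨_, φ_mem_Y.2 e_Y0⟩, hK ⟨_, rfl⟩, (p.val _).1 rfl⟩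
  · exact ⟨⟨_, φ_mem_Y.2 t_Y0⟩, hK ⟨_, rfl⟩, (p.val _).2.1 rfl⟩
  · exact ⟨⟨_, φ_mem_Y.2 n_Y0⟩, hK ⟨_, rfl⟩, (p.val _).2.2 rfl⟩

omit [Finite G] in
/-- the kernel lies in `N` -/
theorem mem_of_map {ψ : m.Y →* GN 4} (p : Psi m ψ) {K : Subgroup G} (hK : m.N ≤ K) {y : m.Y}
    (h : ψ y ∈ (K.subgroupOf m.Y).map ψ) : (y : G) ∈ K := by
  obtain ⟨k, hk, e⟩ := h
  have h1 : ((k⁻¹ * y : m.Y) : G) ∈ K := hK (Fr.im_le_N ((p.ker _).1 (by rw [map_mul, map_inv, e, inv_mul_cancel])))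
  have h2 : (k : G) ∈ K := hk
  simpa using mul_mem h2 h1

/-- `T ⊓ Y` is a Sylow 2-subgroup of `Y` -/
theorem syl (c : CI m) : IsSylowIn 2 (m.T ⊓ m.Y) m.Y := by
  have h1 : m.T ≤ normalizer (m.Y : Set G) := by
    rintro _ ⟨x, hx, rfl⟩
    rw [mem_normalizer_iff_cj, Fr.Y, cj_centralizer, Fr.cj_im, mem_normalizer_iff_cj.1 (T0_norm_Z3 hx)]
  have h2 := (c.syl.of_le h1 le_top).inf_of_le_normalizer (N := m.Y) le_rfl
  rwa [inf_eq_right.2 le_normalizer] at h2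

omit [Finite G] in
/-- the elements of `T ⊓ Y` act as involutions -/
theorem sq_one {ψ : m.Y →* GN 4} (p : Psi m ψ) {y : m.Y} (h : (y : G) ∈ m.T) : ψ y ^ 2 = 1 := by
  obtain ⟨x, hx, e⟩ := h
  have hY : x ∈ Y0 := φ_mem_Y.1 (e ▸ y.2)
  have k : ∀ u ∈ Y0, u * u = 1 → x * u ∈ D0 → ψ y ^ 2 = 1 := fun u hu h1 h2 => by
    let v : m.Y := ⟨m.φ u, φ_mem_Y.2 hu⟩
    have h3 : ψ y * ψ v = 1 := by
      rw [← map_mul, p.ker]
      exact ⟨_, h2, by rw [map_mul, e]; rfl⟩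
    have h4 : ψ v * ψ v = 1 := by
      rw [← map_mul, show v * v = 1 from Subtype.ext (by
        change m.φ u * m.φ u = 1
        rw [← map_mul, h1, map_one]), map_one]
    rw [sq, eq_inv_of_mul_eq_one_left h3, ← mul_inv_rev, h4, inv_one]
  rcases F0_dec (F0_eq ▸ ⟨hx, hY⟩ : x ∈ F0) with a | a | a | a
  · exact k 1 (one_mem _) (mul_one _) (by rwa [mul_one])
  · exact k _ e_Y0 (e_sq _ _) a
  · exact k _ t_Y0 (t_sq _ _) a
  · exact k _ (mul_mem e_Y0 t_Y0) et_sq a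

theorem mem_F36 (c : CI m) {ψ : m.Y →* GN 4} (p : Psi m ψ) (y : m.Y) : ψ y ∈ F36 := by
  refine (sp4 (p.sp y)).resolve_right ?_
  rintro ⟨a, ha, h2, h4⟩
  obtain ⟨y₀, -, rfl⟩ := D12_le p le_rfl ha
  rw [← map_mul] at h2 h4
  set x := y₀ * y
  have h5 : ((x ^ 4 : m.Y) : G) ∈ m.im D0 := (p.ker _).1 (by rw [map_pow, h4])
  have h6 : (x : G) ^ 2 ^ 17 = 1 := by
    have := pow_card_eq_one' (x := (⟨_, h5⟩ : m.im D0))
    rw [Fr.card_im, card_D0] at this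
    have h7 : ((x : G) ^ 4) ^ 2 ^ 15 = 1 := by simpa using congrArg Subtype.val this
    rw [← h7, ← pow_mul]
    norm_num
  obtain ⟨g, hg, h7⟩ := (syl c).exists_conj_mem x.2 (isPGroup_zpowers_of_pow h6)
  have h8 := sq_one p (y := ⟨g, hg⟩ * x * ⟨g, hg⟩⁻¹) h7.1
  rw [map_mul, map_mul, map_inv, conj_pow, mul_inv_eq_one, mul_eq_left] at h8
  exact h2 h8

end T3a

theorem CI.dich (c : CI m) {ψ : m.Y →* GN 4} (p : Psi m ψ) : m.Y ≤ m.N ∨ ∃ y, ψ y = pnu := by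
  refine or_iff_not_imp_right.2 fun h y hy => ?_
  rcases f36 (T3a.mem_F36 c p ⟨y, hy⟩) with a | ⟨a, ha, b, hb, e⟩
  · exact T3a.mem_of_map p le_rfl (y := ⟨y, hy⟩) (T3a.D12_le p le_rfl a)
  · obtain ⟨a, -, rfl⟩ := T3a.D12_le p le_rfl ha
    obtain ⟨b, -, rfl⟩ := T3a.D12_le p le_rfl hb
    exact absurd ⟨a * ⟨y, hy⟩ * b, by rw [map_mul, map_mul, e]⟩ h

theorem CI.Y_le (c : CI m) {ψ : m.Y →* GN 4} (p : Psi m ψ) {y : m.Y} (hy : ψ y = pnu) : m.Y ≤ m.N ⊔ zpowers (y : G) := by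
  intro x hx
  refine T3a.mem_of_map p le_sup_left (y := ⟨x, hx⟩) ?_
  have h : F36 ≤ ((m.N ⊔ zpowers (y : G)).subgroupOf m.Y).map ψ := by
    have h1 := T3a.D12_le p (K := m.N ⊔ zpowers (y : G)) le_sup_left
    rw [F36, closure_le]
    rintro _ (rfl | rfl | rfl | rfl)
    · exact h1 (subset_closure (by simp))
    · exact h1 (subset_closure (by simp))
    · exact h1 (subset_closure (by simp))
    · exact ⟨y, mem_sup_right (mem_zpowers _), hy⟩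
  exact h (T3a.mem_F36 c p _)


end CfsgLib.L5R
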