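import Mathlib
import Cfsg.Agent.Lib.L5R.Psi
import Cfsg.Agent.Lib.L5R.Sp4

/-!
# the missing Weyl element (plans/L5R.md)
-/

set_option autoImplicit false
set_option maxHeartbeats 400000
set_option Elab.async false

namespace CfsgLib.L5R

open Subgroup Cfsg CfsgLib.Tech CfsgLib.Held CfsgLib.MOrb CfsgLib.L72 CfsgLib.LargeExtra CfsgLib.ExtraTwo

variable {G : Type*} [Group G] [Finite G] {m : Fr G}

namespace T3b

theorem lift {Y X : Type*} [Group Y] [Finite Y] [Group X] (ψ : Y →* X) (hk : ∀ y, ψ y = 1 → y ^ 2 ^ 15 = 1)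
    {O : Subgroup X} (hO : IsPGroup 3 O) (hr : O ≤ ψ.range) {d : Y} (d3 : d ^ 3 = 1) (hd : ψ d ∈ O) {w : X}
    (hw : w ∈ O) (w3 : w ^ 3 = 1) (hc : ψ d * w = w * ψ d) : ∃ ω, ψ ω = w ∧ ω ^ 3 = 1 ∧ Commute ω d := by
  have := Fact.mk Nat.prime_three
  have hf : Function.Surjective (ψ.subgroupComap O) := fun x => by
    obtain ⟨y, hy⟩ := hr x.2
    exact ⟨⟨y, by rw [mem_comap, hy]; exact x.2⟩, Subtype.ext hy⟩
  obtain ⟨S, hS⟩ := (isPGroup_zpowers_of_pow (p := 3) (k := 1) (x := (⟨d, hd⟩ : O.comap ψ))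
    (Subtype.ext d3)).exists_le_sylow
  have ht : ⊤ = (S : Subgroup (O.comap ψ)).map (ψ.subgroupComap O) :=
    (S.mapSurjective hf).is_maximal' (hO.to_subgroup ⊤) le_top
  obtain ⟨ω, hω, e⟩ : (⟨w, hw⟩ : O) ∈ (S : Subgroup (O.comap ψ)).map (ψ.subgroupComap O) := ht ▸ mem_top _
  have e' : ψ ω = w := congrArg Subtype.val e
  have one : ∀ x ∈ (S : Subgroup (O.comap ψ)), ψ x = 1 → (x : Y) = 1 := fun x hx h => by
    obtain ⟨k, hk'⟩ := isPGroup_iff_mem.1 S.isPGroup' x hx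
    have h1 : orderOf (x : Y) ∣ 3 ^ k := orderOf_dvd_of_pow_eq_one (congrArg Subtype.val hk')
    exact orderOf_eq_one_iff.1 (Nat.eq_one_of_dvd_coprimes (Nat.Coprime.pow _ _ (by norm_num : Nat.Coprime 3 2)) h1
      (orderOf_dvd_of_pow_eq_one (hk x h)))
  have hd' := hS (mem_zpowers _)
  refine ⟨ω, e', one _ (pow_mem hω 3) (by rw [coe_pow, map_pow, e', w3]), ?_⟩
  have k := one _ (mul_mem (mul_mem hω hd') (inv_mem (mul_mem hd' hω))) (by
    simp only [coe_mul, coe_inv, map_mul, map_inv, e', hc, mul_inv_cancel])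
  exact mul_inv_eq_one.1 k

theorem cm {a b : Mo} {c d : ℕ} (ha : Cd a c) (hb : Cd b d) (h : mulC c d = mulC d c) : Commute a b :=
  (ha.comm_iff hb).2 h

theorem cj3 {a b x : Mo} {c d f : ℕ} (ha : Cd a c) (hx : Cd x d) (hb : Cd b f) (h : f = mulC (mulC c d) c) :
    b = a * x * a := (hb.eq_iff ((ha.mul hx).mul ha)).2 h

theorem nZ3 {x : Mo} {c : ℕ} (hx : Cd x c) (h : lp [1, 2, 7] (fun a => inM 0x3ffffff8c6318 (mulC (mulC c a) c)) = true) :
    ∀ a ∈ Z3, x * a * x ∈ Z3 := fun a ha => by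
  obtain ⟨d, hd⟩ := exists_cd a
  exact ((hx.mul hd).mul hx).mem_Z3.2 (hd.lp_Z3 ha h)

omit [Finite G] in
theorem memY {x : Mo} (hx : x ∈ Y0) : m.φ x ∈ m.Y := by
  rintro _ ⟨a, ha, rfl⟩
  rw [← map_mul, mem_Y0.1 hx a ha, map_mul]

omit [Finite G] in
theorem cjY {x : Mo} (x2 : x * x = 1) (hx : ∀ a ∈ Z3, x * a * x ∈ Z3) (y : m.Y) : m.φ x * y * (m.φ x)⁻¹ ∈ m.Y := by
  rintro _ ⟨a, ha, rfl⟩
  have k := y.2 _ ⟨_, hx a ha, rfl⟩
  have xi : (m.φ x)⁻¹ = m.φ x := by rw [← map_inv, inv_eq_of_mul_eq_one_right x2]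
  rw [map_mul, map_mul] at k
  nth_rw 1 3 [← xi] at k
  calc _ = m.φ x * ((m.φ x)⁻¹ * m.φ a * m.φ x * y) * (m.φ x)⁻¹ := by group
    _ = _ := by rw [k]; group

omit [Finite G] in
theorem key {ψ : m.Y →* GN 4} (p : Psi m ψ) {d u v : m.Y} (hd : (d : G) = m.φ d4) (u3 : u ^ 3 = 1) (v3 : v ^ 3 = 1)
    (ud : Commute u d) (vd : Commute v d) (h : ψ u = ψ v) : u = v := by
  obtain ⟨a, ha, e⟩ := (p.ker (u * v⁻¹)).1 (by rw [map_mul, map_inv, h, mul_inv_cancel])
  have aZ : a ∈ Z3 := cen_d4 ha (m.inj (by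
    rw [map_mul, map_mul, e, ← hd]; exact congrArg Subtype.val (ud.mul_left vd.inv_left).eq))
  have c : Commute (u * v⁻¹) v := Subtype.ext (by rw [coe_mul, coe_mul _ v, ← e]; exact v.2 _ ⟨a, aZ, rfl⟩)
  have k : (u * v⁻¹) ^ 3 = 1 := by rw [← mul_one (_ ^ 3), ← v3, ← c.mul_pow, inv_mul_cancel_right, u3, v3]
  have k2 : u * v⁻¹ * (u * v⁻¹) = 1 := Subtype.ext (by
    rw [coe_mul, ← e, ← map_mul, A0_sq a (pat_le (by decide) (by decide) aZ), map_one, coe_one])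
  rw [pow_three, k2, mul_one] at k
  exact mul_inv_eq_one.1 k

end T3b

open T3b in
theorem Psi.n5 {ψ : m.Y →* GN 4} (p : Psi m ψ) {y : m.Y} (hy : ψ y = pnu) : ∃ ν : m.Y, ψ ν = pnu ∧ N5 m ν := by
  obtain ⟨a, ha⟩ : ∃ a : m.Y, (a : G) = m.φ (e 3 4) := ⟨⟨_, memY (by decide +kernel)⟩, rfl⟩
  obtain ⟨b, hb⟩ : ∃ a : m.Y, (a : G) = m.φ (t 3 4) := ⟨⟨_, memY (by decide +kernel)⟩, rfl⟩
  obtain ⟨s, hs⟩ : ∃ a : m.Y, (a : G) = m.φ (n 3 4) := ⟨⟨_, memY ((cd_n (by decide)).mem_Y0.2 (by decide +kernel))⟩, rfl⟩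
  have pa := (p.val a).1 ha
  have pb := (p.val b).2.1 hb
  have ps := (p.val s).2.2 hs
  have e43 : e 4 3 = n 3 4 * e 3 4 * n 3 4 :=
    cj3 (cd_n (by decide)) (cd_e (by decide)) (cd_e (by decide)) (by decide +kernel)
  obtain ⟨d, hd0⟩ : ∃ d, d = a * (s * a * s) := ⟨_, rfl⟩
  have hd : (d : G) = m.φ d4 := by simp only [hd0, coe_mul, ha, hs, d4, e43, map_mul]
  have pd' : ψ d = pd := by simp only [hd0, map_mul, pa, ps, pd]
  have cd4 : Cd d4 _ := (cd_e (by decide)).mul (cd_e (by decide))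
  have d3 : d ^ 3 = 1 := Subtype.ext (by
    rw [coe_pow, hd, ← map_pow, pow_three, (cd4.mul (cd4.mul cd4)).eq_one.2 (by decide +kernel), map_one, coe_one])
  have m1 : pd ∈ O9 := subset_closure (by simp)
  have m2 : pw ∈ O9 := subset_closure (by simp)
  obtain ⟨ω, pω, ω3, ωd⟩ := lift ψ (fun x hx => by
      obtain ⟨a, ha, e⟩ := (p.ker x).1 hx
      refine Subtype.ext ?_
      rw [coe_pow, ← e, ← map_pow, ← card_D0, show a ^ Nat.card D0 = 1 from
        congrArg Subtype.val (pow_card_eq_one' (x := (⟨a, ha⟩ : D0))), map_one, coe_one])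
    (O := O9) (.of_card (n := 2) card_O9) ((closure_le _).2 (by
      rintro _ (rfl | rfl)
      exacts [⟨d, pd'⟩, ⟨b * y, by rw [map_mul, pb, hy, pw]⟩])) d3 (pd' ▸ m1) m2 pw_three (pd' ▸ pd_pw)
  -- elements of `Y` that normalise `⟨d⟩`
  have k1 : ∀ {x v : m.Y}, x * d * x⁻¹ = d ∨ x * d * x⁻¹ = d⁻¹ → v ^ 3 = 1 → Commute v d →
      ψ x * pw * (ψ x)⁻¹ = ψ v → x * ω * x⁻¹ = v := fun {x v} h v3 vd e =>
    key p hd (by rw [conj_pow, ω3]; group) v3 (by
      have k : Commute (x * ω * x⁻¹) (x * d * x⁻¹) := ωd.map (MulAut.conj x)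
      rcases h with h | h <;> rw [h] at k
      exacts [k, Commute.inv_right_iff.1 k]) vd (by rw [map_mul, map_mul, map_inv, pω, e])
  have iv : ∀ {x : m.Y} {x0 : Mo}, (x : G) = m.φ x0 → x0 * d4 * x0⁻¹ * d4 = 1 → x * d * x⁻¹ = d⁻¹ := fun hx h =>
    eq_inv_of_mul_eq_one_left (Subtype.ext (by
      simp only [coe_mul, coe_inv, hx, hd, ← map_inv, ← map_mul, h, map_one, coe_one]))
  have aω := k1 (.inr (iv ha (by
    rw [e_inv]; exact ((((cd_e (by decide)).mul cd4).mul (cd_e (by decide))).mul cd4).eq_one.2 (by decide +kernel))))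
    ω3 ωd (by rw [pa, pa3_pw, pω])
  have sω := k1 (.inr (iv hs (by
    rw [n_inv]; exact ((((cd_n (by decide)).mul cd4).mul (cd_n (by decide))).mul cd4).eq_one.2 (by decide +kernel))))
    ω3 ωd (by rw [ps, pn3_pw, pω])
  have bω := k1 (x := b) (v := ω⁻¹) (.inl (mul_inv_eq_iff_eq_mul.2 (Subtype.ext (by
      rw [coe_mul, coe_mul, hb, hd, ← map_mul, ← map_mul, (cm (cd_t (by decide)) cd4 (by decide +kernel)).eq]))))
    (by rw [inv_pow, ω3, inv_one]) ωd.inv_left (by rw [pb, pa4_pw, map_inv, pω])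
  have k2 : ∀ {x : Mo}, x ∈ [e 1 2, e 2 1, n 0 1] → x * x = 1 → (∀ a ∈ Z3, x * a * x ∈ Z3) → Commute x d4 →
      Commute (ω : G) (m.φ x) := fun {x} hx x2 hZ xd => by
    have k := key p hd (u := ⟨_, cjY x2 hZ ω⟩) (Subtype.ext (by
        rw [coe_pow, conj_pow, ← coe_pow, ω3]; simp)) ω3 (Subtype.ext (by
        have k : Commute (m.φ x * ω * (m.φ x)⁻¹) (m.φ x * d * (m.φ x)⁻¹) :=
          (ωd.map m.Y.subtype).map (MulAut.conj (m.φ x))
        rw [hd, (xd.map m.φ).eq, mul_inv_cancel_right, ← hd] at k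
        exact k.eq)) ωd (p.cj hx _ _ rfl)
    exact (mul_inv_eq_iff_eq_mul.1 (congrArg Subtype.val k)).symm
  have bb : (b : G) * b = 1 := by rw [hb, ← map_mul, t_sq, map_one]
  -- the centraliser of `ν = b ω` in the model
  obtain ⟨K, hK⟩ : ∃ K : Subgroup Mo, ∀ x, x ∈ K ↔ Commute ((b : G) * ω) (m.φ x) :=
    ⟨(centralizer {(b : G) * ω}).comap m.φ, fun x => mem_centralizer_singleton_iff.trans eq_comm⟩
  have k3 : ∀ {x : Mo}, Commute (t 3 4) x → Commute (ω : G) (m.φ x) → x ∈ K := fun h1 h2 =>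
    (hK _).2 ((hb ▸ h1.map m.φ).mul_left h2)
  have K12 : e 1 2 ∈ K := k3 (cm (cd_t (by decide)) (cd_e (by decide)) (by decide +kernel))
    (k2 (by simp) (e_sq _ _) (nZ3 (cd_e (by decide)) (by decide +kernel)) (cm (cd_e (by decide)) cd4 (by decide +kernel)))
  have K21 : e 2 1 ∈ K := k3 (cm (cd_t (by decide)) (cd_e (by decide)) (by decide +kernel))
    (k2 (by simp) (e_sq _ _) (nZ3 (cd_e (by decide)) (by decide +kernel)) (cm (cd_e (by decide)) cd4 (by decide +kernel)))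
  have N01 : n 0 1 ∈ K := k3 (cm (cd_t (by decide)) (cd_n (by decide)) (by decide +kernel))
    (k2 (by simp) (n_sq _ _) (nZ3 (cd_n (by decide)) (by decide +kernel)) (cm (cd_n (by decide)) cd4 (by decide +kernel)))
  have K34 : e 3 4 ∈ K := k3 (cm (cd_t (by decide)) (cd_e (by decide)) (by decide +kernel))
    (ha ▸ (congrArg Subtype.val (mul_inv_eq_iff_eq_mul.1 aω)).symm)
  have N34 : n 3 4 ∈ K := k3 (cm (cd_t (by decide)) (cd_n (by decide)) (by decide +kernel))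
    (hs ▸ (congrArg Subtype.val (mul_inv_eq_iff_eq_mul.1 sω)).symm)
  have c3 : ∀ {u v x : Mo}, x = u * v * u → u ∈ K → v ∈ K → x ∈ K := fun h h1 h2 => h ▸ mul_mem (mul_mem h1 h2) h1
  have N12 : n 1 2 ∈ K := c3 (cj3 (cd_e (by decide)) (cd_e (by decide)) (cd_n (by decide)) (by decide +kernel)) K12 K21
  have N02 : n 0 2 ∈ K := c3 (cj3 (cd_n (by decide)) (cd_n (by decide)) (cd_n (by decide)) (by decide +kernel)) N01 N12
  have K01 : e 0 1 ∈ K := c3 (cj3 (cd_n (by decide)) (cd_e (by decide)) (cd_e (by decide)) (by decide +kernel)) N02 K21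
  have K10 : e 1 0 ∈ K := c3 (cj3 (cd_n (by decide)) (cd_e (by decide)) (cd_e (by decide)) (by decide +kernel)) N01 K01
  have νν : (b : G) * ω * (b * ω) = 1 := by
    have k : (b : G) * ω * (b : G)⁻¹ = (ω : G)⁻¹ := congrArg Subtype.val bω
    rw [inv_eq_of_mul_eq_one_right bb] at k
    rw [← mul_assoc, k, inv_mul_cancel]
  have pν : ψ (b * ω) = pnu := by rw [map_mul, pb, pω, pw, ← mul_assoc, pa4_sq, one_mul]
  have fin : ∀ {u v : Fin 4 → ZMod 2} {x x' : Mo} {c c' : ℕ}, pnu.1.mulVec u = v → mu u = x → mu v = x' → Cd x c →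
      Cd x' c' → ([eC 0 1, eC 1 2, nC 1 2].all fun f => (mulC c f == mulC f c) && (mulC c' f == mulC f c')) = true →
      (b : G) * ω * m.φ x * (b * ω) = m.φ x' := fun {u v x x' c c'} h1 h2 h3 hx hx' h4 => by
    obtain ⟨ζ, hζ, k⟩ := p.act (b * ω) u
    rw [pν, h1, h2, h3, coe_mul, inv_eq_of_mul_eq_one_right νν] at k
    have k5 : ∀ {f : Mo} {g : ℕ}, f ∈ K → Cd f g → ((mulC c g == mulC g c) && (mulC c' g == mulC g c')) = true →
        ζ * f = f * ζ := fun {f g} hf cf h => by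
      simp only [Bool.and_eq_true, beq_iff_eq] at h
      have k6 := (((hK f).1 hf).mul_left ((cm hx cf h.1).map m.φ)).mul_left ((hK f).1 hf)
      rw [k] at k6
      have k7 := (cm hx' cf h.2).inv_left.mul_left (show Commute (x' * ζ) f from m.inj (by
        rw [map_mul _ _ f, map_mul _ f]; exact k6.eq))
      rw [inv_mul_cancel_left] at k7
      exact k7.eq
    simp only [List.all_cons, List.all_nil, Bool.and_true] at h4
    rw [Bool.and_eq_true, Bool.and_eq_true _ (_ && _)] at h4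
    rw [k, fix_Z3 hζ (by
      simp only [List.mem_cons, List.not_mem_nil, or_false, forall_eq_or_imp, forall_eq]
      exact ⟨k5 K01 (cd_e (by decide)) h4.1, k5 K12 (cd_e (by decide)) h4.2.1, k5 N12 (cd_n (by decide)) h4.2.2⟩),
      mul_one]
  have tr : ∀ {u x x' v v' : Mo}, u ∈ K → v = u * x * u → v' = u * x' * u → (b : G) * ω * m.φ x * (b * ω) = m.φ x' →
      (b : G) * ω * m.φ v * (b * ω) = m.φ v' := fun {u x x' v v'} hu h1 h2 h => by
    have k := ((hK u).1 hu).eq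
    rw [h1, h2, map_mul, map_mul, map_mul, map_mul, ← h]
    generalize (b : G) * ω = ν at k ⊢
    calc _ = ν * m.φ u * m.φ x * (m.φ u * ν) := by simp only [mul_assoc]
      _ = _ := by rw [← k]; nth_rw 1 [k]; simp only [mul_assoc]
  have f3 := fin pnu_val.1 (x := t 0 3) (x' := e 0 4) (by simp [mu]) (by simp [mu]) (cd_t (by decide))
    (cd_e (by decide)) (by decide +kernel)
  have f4 := fin pnu_val.2 (x := t 0 4) (x' := e 0 3) (by simp [mu]) (by simp [mu]) (cd_t (by decide))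
    (cd_e (by decide)) (by decide +kernel)
  refine ⟨b * ω, pν, νν, ?_, (b * ω).2, ?_, fun i hi => ?_, fun i hi => ?_⟩
  · rw [coe_mul, ← hb, ← mul_assoc, bb, one_mul, ← coe_pow, ω3, coe_one]
  · simp only [List.mem_cons, List.not_mem_nil, or_false, forall_eq_or_imp, forall_eq]
    exact ⟨(hK _).1 K01, (hK _).1 K10, (hK _).1 K12, (hK _).1 K21, (hK _).1 K34, (hK _).1 (c3 e43 N34 K34)⟩
  · obtain rfl | rfl | rfl : i = 0 ∨ i = 1 ∨ i = 2 := by revert i; decide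
    · exact f3
    · exact tr N01 (cj3 (cd_n (by decide)) (cd_t (by decide)) (cd_t (by decide)) (by decide +kernel))
        (cj3 (cd_n (by decide)) (cd_e (by decide)) (cd_e (by decide)) (by decide +kernel)) f3
    · exact tr N02 (cj3 (cd_n (by decide)) (cd_t (by decide)) (cd_t (by decide)) (by decide +kernel))
        (cj3 (cd_n (by decide)) (cd_e (by decide)) (cd_e (by decide)) (by decide +kernel)) f3
  · obtain rfl | rfl | rfl : i = 0 ∨ i = 1 ∨ i = 2 := by revert i; decide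
    · exact f4
    · exact tr N01 (cj3 (cd_n (by decide)) (cd_t (by decide)) (cd_t (by decide)) (by decide +kernel))
        (cj3 (cd_n (by decide)) (cd_e (by decide)) (cd_e (by decide)) (by decide +kernel)) f4
    · exact tr N02 (cj3 (cd_n (by decide)) (cd_t (by decide)) (cd_t (by decide)) (by decide +kernel))
        (cj3 (cd_n (by decide)) (cd_e (by decide)) (cd_e (by decide)) (by decide +kernel)) f4

end CfsgLib.L5R
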