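import Mathlib
import Cfsg.Agent.Lib.L5R.T1
import Cfsg.Agent.Lib.L5R.Br
import Cfsg.Agent.Lib.Core.Basic
import Cfsg.Agent.Lib.LargeExtra.Pair

/-!
# the group `C(z, w)` (plans/L5R.md)
-/

set_option autoImplicit false
set_option maxHeartbeats 400000
set_option Elab.async false

namespace CfsgLib.L5R

open Subgroup Cfsg CfsgLib.Tech CfsgLib.Held CfsgLib.MOrb CfsgLib.L72 CfsgLib.LargeExtra CfsgLib.ExtraTwo

namespace T4

theorem comm_of_sq {G : Type*} [Group G] {A : Subgroup G} (h : ∀ a ∈ A, a * a = 1) {a b : G} (ha : a ∈ A)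
    (hb : b ∈ A) : a * b = b * a := by
  rw [← inv_eq_of_mul_eq_one_right (h _ (mul_mem ha hb)), mul_inv_rev,
    inv_eq_of_mul_eq_one_right (h a ha), inv_eq_of_mul_eq_one_right (h b hb)]

theorem V2_Z3 : V2 ≤ Z3 := pat_le (by decide) (by decide)
theorem Z3_Uw : Z3 ≤ Uw := pat_le (by decide) (by decide)
theorem V2_Uw : V2 ≤ Uw := V2_Z3.trans Z3_Uw
theorem D2_T2 : D2 ≤ T2 := pat_le (by decide) (by decide)
theorem T0_H0 : T0 ≤ H0 := pat_le (by decide) (by decide)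
theorem z_V2 : z0 ∈ V2 := mem_V2.2 (by simp)
theorem w_V2 : w0 ∈ V2 := mem_V2.2 (by simp)
theorem r_Z3 : r0 ∈ Z3 := by decide +kernel
theorem r_V2 : r0 ∉ V2 := by decide +kernel
theorem w_ne : w0 ≠ 1 := by decide +kernel
theorem w_ne_z : w0 ≠ z0 := by decide +kernel
theorem Uw_Q : Uw ≤ Q0 := Uw_eq ▸ inf_le_left
theorem Uw_Qw : Uw ≤ Qw := Uw_eq ▸ inf_le_right
theorem n_z : n 1 2 * z0 * (n 1 2)⁻¹ = w0 := by rw [n_inv, n_z0]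

theorem es_Qw : ES Qw w0 := by
  rw [Qw_eq, ← n_z]
  exact es_Q0.map_conj _

theorem card_Qw : Nat.card Qw = 2 ^ 13 := by rw [Qw_eq, card_cj, card_Q0]

theorem norm_Q {x : Mo} (h : x * z0 = z0 * x) : x ∈ normalizer (Q0 : Set Mo) := H0_norm (mem_H0.2 h)

theorem norm_Qw {x : Mo} (h : x * w0 = w0 * x) : x ∈ normalizer (Qw : Set Mo) := by
  rw [Qw_eq, ← cj_normalizer, mem_cj]
  refine norm_Q ?_
  rw [← n_z] at h
  calc (n 1 2)⁻¹ * x * n 1 2 * z0 = (n 1 2)⁻¹ * (x * (n 1 2 * z0 * (n 1 2)⁻¹)) * n 1 2 := by group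
    _ = z0 * ((n 1 2)⁻¹ * x * n 1 2) := by rw [h]; group

theorem norm_Uw {x : Mo} (h1 : x * z0 = z0 * x) (h2 : x * w0 = w0 * x) : x ∈ normalizer (Uw : Set Mo) := by
  refine mem_normalizer_of_forall fun y hy => ?_
  rw [Uw_eq] at hy ⊢
  exact ⟨conj_mem_of_mem_normalizer (norm_Q h1) hy.1, conj_mem_of_mem_normalizer (norm_Qw h2) hy.2⟩

theorem cen_V2 {x v : Mo} (h1 : x * z0 = z0 * x) (h2 : x * w0 = w0 * x) (hv : v ∈ V2) : x * v = v * x := by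
  rcases mem_V2.1 hv with rfl | rfl | rfl | rfl
  · simp
  · exact h1
  · exact h2
  · rw [← mul_assoc, h1, mul_assoc, h2, mul_assoc]

theorem T2_zw {x : Mo} (h : x ∈ T2) : x * z0 = z0 * x ∧ x * w0 = w0 * x :=
  ⟨mem_H0.1 (T0_H0 (mem_T2.1 h).1), (mem_T2.1 h).2⟩

theorem cm_V2 {Q : Subgroup Mo} {z : Mo} (es : ES Q z) (hz : z ∈ V2) {a b : Mo} (ha : a ∈ Q) (hb : b ∈ Q) :
    a * b * a⁻¹ * b⁻¹ ∈ V2 := by
  rcases es.commutator ha hb with e | e <;> rw [e]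
  · exact one_mem _
  · exact hz

/-- the part of the extraspecial group of `u` that lies in the model -/
structure Pu (P : Subgroup Mo) (u : Mo) : Prop where
  uU : u ∈ Uw
  uV : u ∉ V2
  uP : u ∈ P
  zP : z0 ∈ P
  wP : w0 ∈ P
  cm : ∀ x ∈ P, ∀ y ∈ P, x * y * x⁻¹ * y⁻¹ = 1 ∨ x * y * x⁻¹ * y⁻¹ = u
  cu : ∀ x ∈ P, x * u = u * x
  nm : ∀ x, x * u = u * x → ∀ y ∈ P, x * y * x⁻¹ ∈ P
  cQ : Nat.card (P ⊓ Q0 : Subgroup Mo) = 2 ^ 7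
  cW : Nat.card (P ⊓ Qw : Subgroup Mo) = 2 ^ 7
  aQ : ∀ x ∈ P ⊓ Q0, ∀ y ∈ P ⊓ Q0, x * y = y * x
  aW : ∀ x ∈ P ⊓ Qw, ∀ y ∈ P ⊓ Qw, x * y = y * x
  cI : Nat.card (P ⊓ T2 : Subgroup Mo) = 2 ^ 11

namespace Pu

variable {P : Subgroup Mo} {u : Mo} (h : Pu P u)
include h

theorem V2_le : V2 ≤ P ⊓ Uw := by
  refine le_inf (fun v hv => ?_) V2_Uw
  rcases mem_V2.1 hv with rfl | rfl | rfl | rfl
  exacts [one_mem _, h.zP, h.wP, mul_mem h.zP h.wP]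

theorem dec {Q : Subgroup Mo} {z : Mo} (es : ES Q z) (hz : z ∈ V2) (hU : Uw ≤ Q) (cQ : Nat.card Q = 2 ^ 13)
    (cA : Nat.card (P ⊓ Q : Subgroup Mo) = 2 ^ 7) (ab : ∀ x ∈ P ⊓ Q, ∀ y ∈ P ⊓ Q, x * y = y * x) {a : Mo}
    (ha : a ∈ Q) (hc : ∀ x ∈ P ⊓ Uw, a * x = x * a) : ∃ a' ∈ P ⊓ Q, ∃ x ∈ Uw, a = a' * x := by
  have hle : P ⊓ Uw ≤ P ⊓ Q := inf_le_inf_left _ hU
  have hn : P ⊓ Q ≤ normalizer (Uw : Set Mo) := fun x hx =>
    norm_Uw (ab x hx _ (hle (h.V2_le z_V2))) (ab x hx _ (hle (h.V2_le w_V2)))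
  have h1 := card_mul_card_centralizer es (P := P ⊓ Uw) (inf_le_right.trans hU) (h.V2_le hz)
  have h2 := Core.card_sup_mul_card_inf_of_le_normalizer hn
  have e : P ⊓ Q ⊓ Uw = P ⊓ Uw := by rw [inf_assoc, inf_eq_right.2 hU]
  rw [e, cA, card_Uw] at h2
  have h3 : (P ⊓ Q) ⊔ Uw = Q ⊓ centralizer ((P ⊓ Uw : Subgroup Mo) : Set Mo) := by
    refine eq_of_le_of_card_ge (sup_le (le_inf inf_le_right fun x hx => ?_) (le_inf hU fun x hx => ?_)) ?_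
    · exact mem_centralizer_iff.2 fun y hy => ab y (hle hy) x hx
    · exact mem_centralizer_iff.2 fun y hy => comm_of_sq Uw_sq hy.2 hx
    · refine Nat.le_of_mul_le_mul_left (c := Nat.card (P ⊓ Uw : Subgroup Mo)) ?_ Nat.card_pos
      rw [h1, mul_comm (Nat.card (P ⊓ Uw : Subgroup Mo)), h2, cQ]
      norm_num
  have h4 : a ∈ (P ⊓ Q) ⊔ Uw := by
    rw [h3]
    exact ⟨ha, mem_centralizer_iff.2 fun y hy => (hc y hy).symm⟩
  obtain ⟨a', ha', x, hx, e⟩ := (Core.mem_sup_of_le_normalizer_right hn).1 h4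
  exact ⟨a', ha', x, hx, e.symm⟩

theorem zwQ {a : Mo} (ha : a ∈ P ⊓ Q0) : a * z0 = z0 * a ∧ a * w0 = w0 * a :=
  ⟨h.aQ a ha _ ⟨h.zP, es_Q0.mem⟩, h.aQ a ha _ ⟨h.wP, Uw_Q (V2_Uw w_V2)⟩⟩

theorem zwW {a : Mo} (ha : a ∈ P ⊓ Qw) : a * z0 = z0 * a ∧ a * w0 = w0 * a :=
  ⟨h.aW a ha _ ⟨h.zP, Uw_Qw (V2_Uw z_V2)⟩, h.aW a ha _ ⟨h.wP, es_Qw.mem⟩⟩

theorem crit : crit (P ⊓ Uw) u := by
  intro a ha b hb ca cb
  obtain ⟨a', ha', x, hx, rfl⟩ := h.dec es_Q0 z_V2 Uw_Q card_Q0 h.cQ h.aQ ha ca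
  obtain ⟨b', hb', x', hx', rfl⟩ := h.dec es_Qw w_V2 Uw_Qw card_Qw h.cW h.aW hb cb
  have c1 := cm_V2 es_Qw w_V2 (Uw_Qw hx) hb'.2
  have c2 := cm_V2 es_Q0 z_V2 ha'.2 (Uw_Q hx')
  have e0 : x * x' * x⁻¹ = x' := by rw [comm_of_sq Uw_sq hx hx', mul_inv_cancel_right]
  have e1 : a' * (x * b' * x⁻¹ * b'⁻¹) * a'⁻¹ = x * b' * x⁻¹ * b'⁻¹ := by
    rw [cen_V2 (h.zwQ ha').1 (h.zwQ ha').2 c1, mul_inv_cancel_right]
  have e2 : b' * (a' * x' * a'⁻¹ * x'⁻¹) * b'⁻¹ = a' * x' * a'⁻¹ * x'⁻¹ := by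
    rw [cen_V2 (h.zwW hb').1 (h.zwW hb').2 c2, mul_inv_cancel_right]
  have e : a' * x * (b' * x') * (a' * x)⁻¹ * (b' * x')⁻¹ =
      (x * b' * x⁻¹ * b'⁻¹) * (a' * b' * a'⁻¹ * b'⁻¹) * (a' * x' * a'⁻¹ * x'⁻¹) := by
    rw [← e1, ← e2]
    conv_rhs => rw [← e0]
    rw [e0]
    calc a' * x * (b' * x') * (a' * x)⁻¹ * (b' * x')⁻¹
        = a' * (x * b' * x⁻¹ * b'⁻¹) * a'⁻¹ * (a' * b' * a'⁻¹ * b'⁻¹) *
          (b' * (a' * (x * x' * x⁻¹) * a'⁻¹ * x'⁻¹) * b'⁻¹) := by group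
      _ = _ := by rw [e0]
  rw [e]
  rcases h.cm a' ha'.1 b' hb'.1 with e3 | e3 <;> rw [e3]
  · left
    rw [mul_one]
    exact mul_mem c1 c2
  · right
    rw [mul_assoc, ← comm_of_sq Uw_sq h.uU (V2_Uw c2), ← mul_assoc, mul_assoc _ u u, Uw_sq u h.uU, mul_one]
    exact mul_mem c1 c2

theorem hc : ∀ x ∈ Uw, ∀ y ∈ P ⊓ T2, x * y * x⁻¹ * y⁻¹ ∈ P ⊓ Uw := by
  intro x hx y hy
  refine mem_inf.2 ⟨P.mul_mem (h.nm x (comm_of_sq Uw_sq hx h.uU) y hy.1) (P.inv_mem hy.1), ?_⟩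
  have : x * y * x⁻¹ * y⁻¹ = x * (y * x⁻¹ * y⁻¹) := by group
  rw [this]
  exact mul_mem hx (conj_mem_of_mem_normalizer (norm_Uw (T2_zw hy.2).1 (T2_zw hy.2).2) (inv_mem hx))

theorem inf_D2 : D2 ⊓ (P ⊓ T2) = (P ⊓ Q0) ⊔ (P ⊓ Qw) := by
  refine le_antisymm ?_ (sup_le (fun a ha => ?_) fun b hb => ?_)
  · rintro y ⟨hy, hyP, -⟩
    obtain ⟨a, ha, b, hb, aw, bz, rfl⟩ := D2_eq hy
    have key : ∀ x ∈ P ⊓ Uw, a * x = x * a ∧ b * x = x * b := by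
      intro x hx
      have c1 := cm_V2 es_Qw w_V2 hb (Uw_Qw hx.2)
      have c2 := cm_V2 es_Q0 z_V2 ha (Uw_Q hx.2)
      have e : a * b * x * (a * b)⁻¹ * x⁻¹ = (b * x * b⁻¹ * x⁻¹) * (a * x * a⁻¹ * x⁻¹) := by
        calc a * b * x * (a * b)⁻¹ * x⁻¹ = a * (b * x * b⁻¹ * x⁻¹) * a⁻¹ * (a * x * a⁻¹ * x⁻¹) := by group
          _ = _ := by rw [cen_V2 (es_Q0.comm_z a ha) aw c1, mul_inv_cancel_right]
      have e1 : (b * x * b⁻¹ * x⁻¹) * (a * x * a⁻¹ * x⁻¹) = 1 := by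
        rcases h.cm _ hyP x hx.1 with e2 | e2
        · rw [← e, e2]
        · exact absurd (by rw [← e2, e]; exact mul_mem c1 c2) h.uV
      have fin : ∀ p : Mo, p * x * p⁻¹ * x⁻¹ = 1 → p * x = x * p := fun p e => by
        rw [mul_inv_eq_one, mul_inv_eq_iff_eq_mul] at e
        exact e
      rcases es_Qw.commutator hb (Uw_Qw hx.2) with e2 | e2 <;>
        rcases es_Q0.commutator ha (Uw_Q hx.2) with e3 | e3
      · exact ⟨fin a e3, fin b e2⟩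
      · rw [e2, e3, one_mul] at e1
        exact absurd e1 z0_ne
      · rw [e2, e3, mul_one] at e1
        exact absurd e1 w_ne
      · rw [e2, e3, mul_eq_one_iff_eq_inv, es_Q0.inv_eq] at e1
        exact absurd e1 w_ne_z
    obtain ⟨a', ha', x, hx, rfl⟩ := h.dec es_Q0 z_V2 Uw_Q card_Q0 h.cQ h.aQ ha fun x hx => (key x hx).1
    obtain ⟨b', hb', x', hx', rfl⟩ := h.dec es_Qw w_V2 Uw_Qw card_Qw h.cW h.aW hb fun x hx => (key x hx).2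
    have m1 : b'⁻¹ * x * b' * x' ∈ Uw :=
      mul_mem (conj_mem_of_mem_normalizer' (norm_Uw (h.zwW hb').1 (h.zwW hb').2) hx) hx'
    have m2 : b'⁻¹ * x * b' * x' ∈ P := by
      have : b'⁻¹ * x * b' * x' = b'⁻¹ * (a'⁻¹ * (a' * x * (b' * x'))) := by group
      rw [this]
      exact mul_mem (inv_mem hb'.1) (mul_mem (inv_mem ha'.1) hyP)
    have : a' * x * (b' * x') = a' * (b' * (b'⁻¹ * x * b' * x')) := by group
    rw [this]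
    exact mul_mem (mem_sup_left ha') (mem_sup_right (mul_mem hb' ⟨m2, Uw_Qw m1⟩))
  · have := mem_D2_Q ha.2 (h.zwQ ha).2
    exact ⟨this, ha.1, D2_T2 this⟩
  · have := mem_D2_Qw hb.2 (h.zwW hb).1
    exact ⟨this, hb.1, D2_T2 this⟩

theorem hk : Nat.card (P ⊓ Uw : Subgroup Mo) = 8 * D2.relIndex (P ⊓ T2) := by
  have hn : P ⊓ Q0 ≤ normalizer ((P ⊓ Qw : Subgroup Mo) : Set Mo) := fun a ha =>
    mem_normalizer_of_forall fun y hy =>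
      ⟨h.nm a (h.cu a ha.1) y hy.1, conj_mem_of_mem_normalizer (norm_Qw (h.zwQ ha).2) hy.2⟩
  have h1 := Core.card_sup_mul_card_inf_of_le_normalizer hn
  have e : P ⊓ Q0 ⊓ (P ⊓ Qw) = P ⊓ Uw := by rw [Uw_eq, inf_inf_inf_comm, inf_idem]
  have h2 := Core.card_inf_mul_relIndex D2 (P ⊓ T2)
  rw [e, h.cQ, h.cW, ← h.inf_D2] at h1
  rw [h.cI] at h2
  refine Nat.eq_of_mul_eq_mul_left (Nat.card_pos (α := (D2 ⊓ (P ⊓ T2) : Subgroup Mo))) ?_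
  rw [h1, mul_left_comm, h2]
  norm_num

theorem fin : ∃ k ∈ H0, k * u * k⁻¹ = w0 :=
  br h.V2_le inf_le_right inf_le_right h.hc h.hk ⟨h.uP, h.uU⟩ h.uV h.crit

end Pu

variable {G : Type*} [Group G] {m : Fr G}

theorem cenV {g : G} (hg : g ∈ m.C2) {v : Mo} (hv : v ∈ V2) : g * m.φ v * g⁻¹ = m.φ v := by
  obtain ⟨h1, h2⟩ := Fr.mem_C2.1 hg
  rw [mul_inv_eq_iff_eq_mul]
  rcases mem_V2.1 hv with rfl | rfl | rfl | rfl
  · simp
  · exact h1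
  · exact h2
  · rw [map_mul, ← mul_assoc, h1, mul_assoc, h2, mul_assoc]

theorem φ_C2 {x : Mo} (hx : x ∈ T2) : m.φ x ∈ m.C2 :=
  Fr.mem_C2.2 ⟨by rw [← map_mul, ← map_mul, (T2_zw hx).1], by rw [← map_mul, ← map_mul, (T2_zw hx).2]⟩

theorem im_Uw : m.im Uw = m.Q ⊓ m.im Qw := by rw [Uw_eq]; exact map_inf _ _ _ m.inj

theorem cj_n : Tech.cj (m.φ (n 1 2)) m.Q = m.im Qw := by rw [Fr.cj_im, ← Qw_eq]

theorem φ_n : m.φ (n 1 2) * m.z * (m.φ (n 1 2))⁻¹ = m.w := by rw [← map_inv, ← map_mul, ← map_mul, n_z]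

theorem card_comap {B : Subgroup G} (h : B ≤ m.N) : Nat.card (B.comap m.φ) = Nat.card B := by
  rw [← m.card_im, Fr.im_comap h]

end T4

open T4

variable {G : Type*} [Group G] [Finite G] {m : Fr G}

theorem CI.pre_w (c : CI m) : Pre (m.im Qw) m.w := by
  rw [← cj_n, ← φ_n]
  exact c.pre.conj _

theorem CI.t4_nU (c : CI m) {g x : G} (hg : g ∈ m.C2) (hx : x ∈ m.im Uw) : g * x * g⁻¹ ∈ m.im Uw := by
  rw [im_Uw] at hx ⊢
  exact ⟨c.pre.norm g (Fr.mem_C2.1 hg).1 x hx.1, c.pre_w.norm g (Fr.mem_C2.1 hg).2 x hx.2⟩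

theorem CI.t2 (c : CI m) {g : G} (hg : g ∈ m.C2) : ∃ x ∈ D2, (m.φ x)⁻¹ * g ∈ m.Y := by
  obtain ⟨u, hu, e⟩ := c.t4_nU hg (Fr.φ_mem.2 (Z3_Uw r_Z3))
  have hV : u ∉ V2 := by
    intro hv
    have h1 := cenV (inv_mem hg) hv
    rw [e] at h1
    have h2 : m.φ r0 = m.φ u := by rw [e, ← h1]; group
    exact r_V2 (Fr.φ_eq.1 h2 ▸ hv)
  have hZ : ∀ x ∈ Z3, ∃ x' ∈ V2 ⊔ zpowers u, g * m.φ x * g⁻¹ = m.φ x' := by
    intro x hx
    rcases mem_Z3.1 hx with h1 | h1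
    · exact ⟨x, mem_sup_left h1, cenV hg h1⟩
    · refine ⟨x * r0 * u⁻¹, mul_mem (mem_sup_left h1) (mem_sup_right (inv_mem (mem_zpowers u))), ?_⟩
      rw [map_mul, map_inv, e, ← cenV hg h1, map_mul]
      group
  have hcr : crit (V2 ⊔ zpowers u) u := by
    intro a ha b hb ca cb
    obtain ⟨a1, ha1, ea⟩ := c.pre.norm g⁻¹ (Fr.mem_C2.1 (inv_mem hg)).1 _ (Fr.φ_mem.2 ha)
    obtain ⟨b1, hb1, eb⟩ := c.pre_w.norm g⁻¹ (Fr.mem_C2.1 (inv_mem hg)).2 _ (Fr.φ_mem.2 hb)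
    have tr : ∀ p p1 : Mo, m.φ p1 = g⁻¹ * m.φ p * g⁻¹⁻¹ → (∀ x ∈ V2 ⊔ zpowers u, p * x = x * p) →
        ∀ x ∈ Z3, p1 * x = x * p1 := by
      intro p p1 ep cp x hx
      obtain ⟨x', hx', ex⟩ := hZ x hx
      have h1 := congrArg m.φ (cp x' hx')
      rw [map_mul, map_mul, ← ex] at h1
      rw [← Fr.φ_eq (m := m), map_mul, map_mul, ep]
      calc g⁻¹ * m.φ p * g⁻¹⁻¹ * m.φ x = g⁻¹ * (m.φ p * (g * m.φ x * g⁻¹)) * g := by group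
        _ = m.φ x * (g⁻¹ * m.φ p * g⁻¹⁻¹) := by rw [h1]; group
    have ec : m.φ (a * b * a⁻¹ * b⁻¹) = g * m.φ (a1 * b1 * a1⁻¹ * b1⁻¹) * g⁻¹ := by
      simp only [map_mul, map_inv, ea, eb]
      group
    rcases crit_r0 a1 ha1 b1 hb1 (tr a a1 ea ca) (tr b b1 eb cb) with h1 | h1
    · left
      rw [cenV hg h1, Fr.φ_eq] at ec
      rwa [ec]
    · right
      have h2 : m.φ (a * b * a⁻¹ * b⁻¹ * u) = m.φ (a1 * b1 * a1⁻¹ * b1⁻¹ * r0) := by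
        rw [← cenV hg h1, map_mul _ _ u, map_mul _ _ r0, ec, e]
        group
      rwa [Fr.φ_eq.1 h2]
  obtain ⟨y, hy, ey⟩ := D2_tr (br3 hu hV hcr) hV
  refine ⟨y, hy, mem_centralizer_iff.2 ?_⟩
  rintro _ ⟨x, hx, rfl⟩
  have hC : (m.φ y)⁻¹ * g ∈ m.C2 := mul_mem (inv_mem (φ_C2 (D2_T2 hy))) hg
  have hr : (m.φ y)⁻¹ * g * m.φ r0 * ((m.φ y)⁻¹ * g)⁻¹ = m.φ r0 := by
    calc (m.φ y)⁻¹ * g * m.φ r0 * ((m.φ y)⁻¹ * g)⁻¹ = (m.φ y)⁻¹ * (g * m.φ r0 * g⁻¹) * m.φ y := by group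
      _ = m.φ r0 := by rw [← e, ← ey, map_mul, map_mul, map_inv]; group
  generalize (m.φ y)⁻¹ * g = k at hC hr
  rw [eq_comm, ← mul_inv_eq_iff_eq_mul]
  rcases mem_Z3.1 hx with h1 | h1
  · exact cenV hC h1
  · have h2 := cenV hC h1
    rw [map_mul] at h2
    calc k * m.φ x * k⁻¹ = k * (m.φ x * m.φ r0) * k⁻¹ * (k * m.φ r0 * k⁻¹)⁻¹ := by group
      _ = m.φ x := by rw [h2, hr]; group

theorem CI.t4_pu (c : CI m) {g : G} {u : Mo} (e : m.φ u = g * m.z * g⁻¹) (hu : u ∈ Uw) (hV : u ∉ V2)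
    (hI : Tech.cj g m.Q ⊓ m.C2 ≤ m.im T2) : Pu ((Tech.cj g m.Q).comap m.φ) u := by
  have h8 : 8 < Nat.card m.Q := by rw [m.card_im, card_Q0]; norm_num
  have h8' : 8 < Nat.card (m.im Qw) := by rw [m.card_im, card_Qw]; norm_num
  have pP : Pre (Tech.cj g m.Q) (m.φ u) := e ▸ c.pre.conj g
  have m1 : g * m.z * g⁻¹ ∈ m.Q := e ▸ Fr.φ_mem.2 (Uw_Q hu)
  have n1 : g * m.z * g⁻¹ ≠ m.z := fun h => hV (Fr.φ_eq.1 (e.trans h) ▸ z_V2)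
  set ν := m.φ (n 1 2) with hν
  have e' : g * ν⁻¹ * m.w * (g * ν⁻¹)⁻¹ = m.φ u := by rw [e, ← φ_n, ← hν]; group
  have eP : Tech.cj (g * ν⁻¹) (m.im Qw) = Tech.cj g m.Q := by
    rw [← cj_n, ← cj_mul, inv_mul_cancel_right]
  have m2 : g * ν⁻¹ * m.w * (g * ν⁻¹)⁻¹ ∈ m.im Qw := e' ▸ Fr.φ_mem.2 (Uw_Qw hu)
  have n2 : g * ν⁻¹ * m.w * (g * ν⁻¹)⁻¹ ≠ m.w := fun h => hV (Fr.φ_eq.1 (e'.symm.trans h) ▸ w_V2)
  have p1 := c.pre.pair h8 m1 n1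
  have p2 := c.pre_w.pair h8' m2 n2
  have zP : m.z ∈ Tech.cj g m.Q := p1.zQ1
  have wP : m.w ∈ Tech.cj g m.Q := eP ▸ p2.zQ1
  have cmp : ∀ K : Subgroup Mo, (Tech.cj g m.Q).comap m.φ ⊓ K = (m.im K ⊓ Tech.cj g m.Q).comap m.φ := by
    intro K
    rw [comap_inf, comap_map_eq_self_of_injective m.inj, inf_comm]
  refine ⟨hu, hV, pP.es.mem, zP, wP, fun x hx y hy => ?_, fun x hx => ?_, fun x hx y hy => ?_, ?_, ?_,
    fun x hx y hy => ?_, fun x hx y hy => ?_, ?_⟩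
  · have := pP.es.commutator hx hy
    simp only [← map_mul, ← map_inv] at this
    rwa [← map_one m.φ, Fr.φ_eq, Fr.φ_eq] at this
  · have := pP.es.comm_z _ hx
    rwa [← map_mul, ← map_mul, Fr.φ_eq] at this
  · have := pP.norm (m.φ x) (by rw [← map_mul, ← map_mul, hx]) _ hy
    rwa [← map_inv, ← map_mul, ← map_mul] at this
  · rw [cmp, card_comap (inf_le_left.trans Fr.im_le_N)]
    exact c.card_inf m1 n1
  · rw [cmp, card_comap (inf_le_left.trans Fr.im_le_N)]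
    have e2 : ν⁻¹ * g * m.z * (ν⁻¹ * g)⁻¹ = ν⁻¹ * m.φ u * ν := by rw [e]; group
    have := c.card_inf (g := ν⁻¹ * g) (by
      rw [e2, ← mem_cj, cj_n]
      exact Fr.φ_mem.2 (Uw_Qw hu)) (fun h => n2 (by rw [e', ← φ_n, ← hν, ← h, e2]; group))
    rwa [← card_cj ν, cj_inf, cj_n, ← cj_mul, mul_inv_cancel_left] at this
  · have := p1.E_comm (x := m.φ x) (y := m.φ y) ⟨Fr.φ_mem.2 hx.2, hx.1⟩ ⟨Fr.φ_mem.2 hy.2, hy.1⟩
    rwa [← map_mul, ← map_mul, Fr.φ_eq] at this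
  · have := p2.E_comm (x := m.φ x) (y := m.φ y) ⟨Fr.φ_mem.2 hx.2, (eP.ge hx.1 :)⟩ ⟨Fr.φ_mem.2 hy.2, (eP.ge hy.1 :)⟩
    rwa [← map_mul, ← map_mul, Fr.φ_eq] at this
  · have e1 : m.im T2 ⊓ Tech.cj g m.Q = Tech.cj g m.Q ⊓ m.C2 := by
      refine le_antisymm (le_inf inf_le_right (inf_le_left.trans ?_)) (le_inf hI inf_le_left)
      rintro _ ⟨x, hx, rfl⟩
      exact φ_C2 hx
    rw [cmp, card_comap (inf_le_left.trans Fr.im_le_N), e1]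
    have c8 : Nat.card (V2 ⊔ zpowers u : Subgroup Mo) = 8 := by
      have h1 := Core.card_sup_mul_card_inf_of_le_normalizer (H := zpowers u) (N := V2)
        (zpowers_le.2 (mem_normalizer_of_forall fun y hy => by
          rwa [comm_of_sq Uw_sq hu (V2_Uw hy), mul_inv_cancel_right]))
      have h2 : zpowers u ⊓ V2 = ⊥ := by
        rw [eq_bot_iff]
        rintro x ⟨hx, hx'⟩
        rcases (mem_zpowers_iff_of_mul_self (Uw_sq u hu)).1 hx with rfl | rfl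
        · exact one_mem _
        · exact absurd hx' hV
      rw [h2, card_bot, mul_one, Nat.card_zpowers,
        orderOf_eq_two (fun h => hV (by rw [h]; exact one_mem _)) (Uw_sq u hu), card_V2, sup_comm] at h1
      exact h1
    have hle : m.im (V2 ⊔ zpowers u) ≤ Tech.cj g m.Q := by
      refine map_le_iff_le_comap.2 (sup_le (fun v hv => ?_) (zpowers_le.2 pP.es.mem))
      rcases mem_V2.1 hv with rfl | rfl | rfl | rfl
      exacts [one_mem _, zP, wP, mul_mem (mem_comap.2 zP) (mem_comap.2 wP)]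
    have h1 := card_mul_card_centralizer pP.es hle (Fr.φ_mem.2 (mem_sup_right (mem_zpowers u)))
    have e2 : Tech.cj g m.Q ⊓ centralizer ((m.im (V2 ⊔ zpowers u) : Subgroup G) : Set G) =
        Tech.cj g m.Q ⊓ m.C2 := by
      ext x
      refine and_congr_right fun hx => ⟨fun h2 => Fr.mem_C2.2 ⟨?_, ?_⟩, fun h2 => ?_⟩
      · exact (mem_centralizer_iff.1 h2 _ (Fr.φ_mem.2 (mem_sup_left z_V2))).symm
      · exact (mem_centralizer_iff.1 h2 _ (Fr.φ_mem.2 (mem_sup_left w_V2))).symm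
      · have h3 : m.im (V2 ⊔ zpowers u) ≤ centralizer ({x} : Set G) := by
          refine map_le_iff_le_comap.2 (sup_le (fun v hv => ?_) (zpowers_le.2 ?_))
          · exact mem_centralizer_singleton_iff.2 (mul_inv_eq_iff_eq_mul.1 (cenV h2 hv)).symm
          · exact mem_centralizer_singleton_iff.2 (pP.es.comm_z x hx).symm
        exact mem_centralizer_iff.2 fun y hy => mem_centralizer_singleton_iff.1 (h3 hy)
    rw [e2, m.card_im, c8, card_cj, m.card_im, card_Q0] at h1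
    omega

theorem CI.t4_syl (c : CI m) : IsSylowIn 2 (m.im T2) m.C2 := by
  have hn : m.T ≤ normalizer (m.C2 : Set G) := by
    rintro _ ⟨x, hx, rfl⟩
    refine mem_normalizer_of_forall fun y hy => ?_
    have key : ∀ v ∈ V2, m.φ x * y * (m.φ x)⁻¹ * m.φ v = m.φ v * (m.φ x * y * (m.φ x)⁻¹) := by
      intro v hv
      have h1 := cenV hy (conj_mem_of_mem_normalizer' (T0_norm_V2 hx) hv)
      rw [map_mul, map_mul, map_inv] at h1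
      calc m.φ x * y * (m.φ x)⁻¹ * m.φ v = m.φ x * (y * ((m.φ x)⁻¹ * m.φ v * m.φ x) * y⁻¹) * y * (m.φ x)⁻¹ := by
            group
        _ = m.φ v * (m.φ x * y * (m.φ x)⁻¹) := by rw [h1]; group
    exact Fr.mem_C2.2 ⟨key _ z_V2, key _ w_V2⟩
  have h1 := (c.syl.of_le hn le_top).inf_of_le_normalizer (N := m.C2) le_rfl
  have e : m.T ⊓ m.C2 = m.im T2 := by
    refine le_antisymm ?_ (le_inf (Fr.im_le.2 fun x hx => (mem_T2.1 hx).1) ?_)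
    · rintro _ ⟨⟨x, hx, rfl⟩, h2⟩
      have h3 := (Fr.mem_C2.1 h2).2
      rw [← map_mul, ← map_mul, Fr.φ_eq] at h3
      exact Fr.φ_mem.2 (mem_T2.2 ⟨hx, h3⟩)
    · rintro _ ⟨x, hx, rfl⟩
      exact φ_C2 hx
  rwa [e, inf_eq_right.2 le_normalizer] at h1

theorem CI.t4 (c : CI m) {g : G} (h : g * m.z * g⁻¹ ∈ m.im Uw) (hne : g * m.z * g⁻¹ ≠ m.z) :
    ∃ y ∈ m.C2, ∃ k ∈ H0, m.φ k * (y * (g * m.z * g⁻¹) * y⁻¹) * (m.φ k)⁻¹ = m.w := by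
  by_cases hV : g * m.z * g⁻¹ ∈ m.im V2
  · obtain ⟨u, hu, e⟩ := hV
    obtain ⟨k, hk, ek⟩ := conj_Z3 (V2_Z3 hu) (fun h1 => c.pre.es.ne_one (by
      rw [h1, map_one, eq_comm, conj_eq_one_iff] at e
      exact e)) (fun h1 => hne (by rw [← e, h1]))
    refine ⟨1, one_mem _, k, hk, ?_⟩
    rw [← e, one_mul, inv_one, mul_one, ← map_inv, ← map_mul, ← map_mul, ek]
  · obtain ⟨y, hy, hI⟩ := c.t4_syl.exists_cj_le (Q := Tech.cj g m.Q ⊓ m.C2)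
      ((isPGroup_cj g c.pre.es.isPGroup).to_le inf_le_left) inf_le_right
    obtain ⟨u, hu, e⟩ := c.t4_nU hy h
    have hV' : u ∉ V2 := by
      intro hv
      have h1 := cenV (inv_mem hy) hv
      rw [e] at h1
      refine hV ⟨u, hv, ?_⟩
      rw [e, ← h1]
      group
    rw [cj_inf, ← cj_mul, cj_eq_of_mem hy] at hI
    obtain ⟨k, hk, ek⟩ := (c.t4_pu (g := y * g) (u := u) (by rw [e]; group) hu hV' hI).fin
    refine ⟨y, hy, k, hk, ?_⟩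
    rw [← e, ← map_inv, ← map_mul, ← map_mul, ek]

end CfsgLib.L5R
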