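import Mathlib
import Cfsg.Agent.Lib.L5R.T4
import Cfsg.Agent.Lib.L5R.Orb

/-!
# `C(z)` lies in `⟨N, ν⟩` (plans/L5R.md)
-/

set_option autoImplicit false
set_option maxHeartbeats 400000
set_option Elab.async false

namespace CfsgLib.L5R

open Subgroup Cfsg CfsgLib.Tech CfsgLib.Held CfsgLib.MOrb CfsgLib.L72 CfsgLib.LargeExtra CfsgLib.ExtraTwo

variable {G : Type*} [Group G] [Finite G] {m : Fr G}

namespace T5a

theorem g_add {y y' : Mo} (hy : y ∈ Q0) (hy' : y' ∈ Q0) {i j : Fin 5} (hi : i.val ≤ 1) (hj : 2 ≤ j.val) :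
    (y * y').g.1 i j = y.g.1 i j + y'.g.1 i j := by
  have h1 : ∀ k : Fin 5, k.val ≤ 1 → y.g.1 i k = (1 : Mat) i k := fun k hk =>
    hy.1 i k (by simp only [pE, decide_eq_true_eq]; omega)
  have h2 : ∀ k : Fin 5, 2 ≤ k.val → y'.g.1 k j = (1 : Mat) k j := fun k hk =>
    hy'.1 k j (by simp only [pE, decide_eq_true_eq]; omega)
  change (y.g.1 * y'.g.1) i j = _
  rw [Matrix.mul_apply, Fin.sum_univ_five, h1 0 (by decide), h1 1 (by decide), h2 2 (by decide), h2 3 (by decide),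
    h2 4 (by decide)]
  fin_cases i <;> fin_cases j <;> simp [Matrix.one_apply] at hi hj ⊢ <;> exact add_comm _ _

/-- the relation between an element of `W7` and its image under `ν` -/
def Rl (x y : Mo) : Prop :=
  ∀ i : Fin 5, i.val ≤ 1 → y.g.1 i 2 = 0 ∧ y.g.1 i 3 = x.x.1 i 4 ∧ y.g.1 i 4 = x.x.1 i 3

instance (x y : Mo) : Decidable (Rl x y) := by unfold Rl; infer_instance

omit [Finite G] in
theorem w7 {ν : G} (h : N5 m ν) {x : Mo} (hx : x ∈ W7) : ∃ y ∈ Q0, ν * m.φ x * ν = m.φ y ∧ Rl x y := by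
  let K : Subgroup Mo := ofMul {x | x.g = 1 ∧ ∃ y ∈ Q0, ν * m.φ x * ν = m.φ y ∧ Rl x y}
    ⟨rfl, 1, one_mem _, by simp [h.sq], by decide +kernel⟩ (by
      rintro x ⟨a, y, hy, e, r⟩ x' ⟨a', y', hy', e', r'⟩
      refine ⟨by rw [mul_g, a, a', mul_one], y * y', mul_mem hy hy', ?_, fun i hi => ?_⟩
      · rw [map_mul, map_mul, ← e, ← e', mul_assoc _ ν, ← mul_assoc ν (ν * _), ← mul_assoc ν ν, h.sq]; group
      · have ex : ∀ j, (x * x').x.1 i j = x.x.1 i j + x'.x.1 i j := fun j => by rw [mul_x, a, one_smul]; rfl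
        rw [g_add hy hy' hi (by decide), g_add hy hy' hi (by decide), g_add hy hy' hi (by decide), ex, ex,
          (r i hi).1, (r i hi).2.1, (r i hi).2.2, (r' i hi).1, (r' i hi).2.1, (r' i hi).2.2]
        exact ⟨add_zero _, rfl, rfl⟩)
  have z : ∀ a ∈ Z3, a ∈ Q0 → a.g = 1 → Rl a a → a ∈ K := fun a ha h1 h2 h3 =>
    ⟨h2, a, h1, by rw [← h.memY _ (Fr.φ_mem.2 ha), mul_assoc, h.sq, mul_one], h3⟩
  refine (gen_up (P := pA) (R := rQ) (K := K) (fun _ _ _ => rfl) (fun i j hij ht => ?_) (fun i j hij he => ?_) hx).2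
  · have : ∀ i j : Fin 5, i < j → t i j ∈ W7 → (t i j ∈ Z3 ∧ t i j ∈ Q0 ∧ Rl (t i j) (t i j)) ∨
        (i.val ≤ 2 ∧ j = 3 ∧ e i 4 ∈ Q0 ∧ Rl (t i 3) (e i 4)) ∨ (i.val ≤ 2 ∧ j = 4 ∧ e i 3 ∈ Q0 ∧ Rl (t i 4) (e i 3)) := by
      decide +kernel
    rcases this i j hij ht with ⟨a, b, c⟩ | ⟨a, rfl, b, c⟩ | ⟨a, rfl, b, c⟩
    exacts [z _ a b rfl c, ⟨rfl, _, b, h.c3 i a, c⟩, ⟨rfl, _, b, h.c4 i a, c⟩]
  · exact absurd he ((by decide +kernel : ∀ i j : Fin 5, i < j → e i j ∉ W7) i j hij)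

end T5a

omit [Finite G] in
theorem N5.orb {ν : G} (h : N5 m ν) {q : Mo} (hq : q ∈ Q0) (sq : q * q = 1) :
    ∃ g ∈ m.im H0 ⊔ zpowers ν, g * m.φ q * g⁻¹ ∈ m.im Uw := by
  by_cases r : rk1 q
  · obtain ⟨k, hk, e⟩ := orb1 hq sq r
    exact ⟨m.φ k, mem_sup_left (Fr.φ_mem.2 hk), by rw [← map_inv, ← map_mul, ← map_mul]; exact Fr.φ_mem.2 e⟩
  obtain ⟨k, hk, e1, e2⟩ := orb2 hq sq r
  have q1 := conj_mem_of_mem_normalizer (H0_norm hk) hq
  have s1 : k * q * k⁻¹ * (k * q * k⁻¹) = 1 := by rw [conj_mul, sq, mul_one, mul_inv_cancel]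
  obtain ⟨p, hp⟩ : ∃ p, p = k * q * k⁻¹ := ⟨_, rfl⟩
  rw [← hp] at e1 e2 q1 s1
  have e3 : p.x.1 1 3 = p.x.1 0 4 := by
    have g0 : ∀ j, (E 0 3 * E 1 4 : GN 5).1 0 j = if j = 0 ∨ j = 3 then 1 else 0 := by decide +kernel
    have g1 : ∀ j, (E 0 3 * E 1 4 : GN 5).1 1 j = if j = 1 ∨ j = 4 then 1 else 0 := by decide +kernel
    have a : p.x.1 0 1 + (p.g.1 * p.x.1 * p.g.1.transpose) 0 1 = 0 := congrArg (fun a : Mo => a.x.1 0 1) s1
    simp only [e1, Matrix.mul_apply, Fin.sum_univ_five, Matrix.transpose_apply, g0, g1, q1.2 3 4 rfl, p.x.2.1 3 1] at a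
    simp at a
    generalize p.x.1 0 1 = u, p.x.1 1 3 = v, p.x.1 0 4 = w at a
    revert u v w; decide
  obtain ⟨y, hy, e4, rl⟩ := T5a.w7 h (x := th p.x) ⟨fun _ _ _ => rfl, q1.2⟩
  have νi : ν⁻¹ = ν := inv_eq_of_mul_eq_one_right h.sq
  have sw : ∀ {a b : G}, ν * a * ν = b → ν * b * ν⁻¹ = a := fun e => by
    rw [← e, ← mul_assoc, ← mul_assoc, h.sq, one_mul, mul_inv_cancel_right]
  have e5 : ν * m.φ p * ν⁻¹ = m.φ (y * t 0 4 * t 1 3) := by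
    rw [← th_mul_io0 p, e1, map_mul io0, map_mul, map_mul, ← conj_mul, ← conj_mul, νi, e4, ← νi, map_mul, map_mul,
      mul_assoc (m.φ y), ← sw (h.c4 0 (by decide)), ← sw (h.c3 1 (by decide)), νi]
    rfl
  have q2 : y * t 0 4 * t 1 3 ∈ Q0 := mul_mem (mul_mem hy (by decide +kernel)) (by decide +kernel)
  obtain ⟨k', hk', e6⟩ := orb1 q2 (m.inj (by
    rw [map_mul _ (_ * _), ← e5, conj_mul, ← map_mul, s1, map_one, mul_one, mul_inv_cancel])) (by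
      have a : (y * t 0 4 * t 1 3).g = y.g := (mul_one _).trans (mul_one _)
      obtain ⟨a1, a2, a3⟩ := rl 0 (by decide)
      obtain ⟨b1, b2, b3⟩ := rl 1 (by decide)
      change _ = p.x.1 _ _ at a2 a3 b2 b3
      rw [e3] at b3
      rw [e2] at a2 b3
      generalize p.x.1 0 3 = u, p.x.1 1 4 = v at a2 a3 b2 b3
      intro j l hj hl
      rw [a]
      fin_cases j <;> fin_cases l <;> simp at hj hl ⊢ <;> simp only [a1, a2, a3, b1, b2, b3] <;>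
        clear a2 a3 b2 b3 <;> revert u v <;> decide)
  refine ⟨m.φ k' * ν * m.φ k, mul_mem (mul_mem (mem_sup_left (Fr.φ_mem.2 hk')) (mem_sup_right (mem_zpowers ν)))
    (mem_sup_left (Fr.φ_mem.2 hk)), ?_⟩
  have := (Fr.φ_mem (m := m)).2 e6
  rw [map_mul, map_mul, ← e5, hp, map_mul, map_mul, map_inv, map_inv] at this
  convert this using 1; group

theorem CI.t5a (c : CI m) {ν : G} (h : N5 m ν) (hY : m.Y ≤ m.N ⊔ zpowers ν) : m.H ≤ m.N ⊔ zpowers ν := by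
  have h2 : m.C2 ≤ m.N ⊔ zpowers ν := fun g hg => by
    obtain ⟨x, -, e⟩ := c.t2 hg
    simpa using mul_mem (mem_sup_left (⟨x, rfl⟩ : m.φ x ∈ m.N)) (hY e)
  have hH : m.im H0 ≤ m.H := by
    rintro _ ⟨x, hx, rfl⟩
    rw [Fr.mem_H, ← map_mul, ← map_mul, mem_H0.1 hx]
  have cz : ∀ {g}, g ∈ m.H → g * m.z * g⁻¹ = m.z := fun hg => by rw [Fr.mem_H.1 hg, mul_inv_cancel_right]
  intro g hg
  obtain ⟨q, hq, e⟩ := c.pre.norm g (Fr.mem_H.1 hg) _ (Fr.φ_mem.2 (by decide +kernel : w0 ∈ Q0))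
  obtain ⟨k, hk, e1⟩ := h.orb hq (m.inj (by
    rw [map_mul, e, conj_mul, ← map_mul, show w0 * w0 = 1 from t_sq 0 2, map_one, mul_one, mul_inv_cancel]))
  have kH : k ∈ m.H := sup_le hH (zpowers_le.2 (Fr.mem_H.2 (h.memY _ (Fr.φ_mem.2 (by decide +kernel))).symm)) hk
  have e2 : k * g * m.φ (n 1 2) * m.z * (k * g * m.φ (n 1 2))⁻¹ = k * g * m.w * (k * g)⁻¹ := by
    rw [Fr.w, ← n_z0, map_mul, map_mul, mul_inv_rev _ (m.φ _), ← map_inv, n_inv]; group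
  obtain ⟨y, hy, l, hl, e3⟩ := c.t4 (g := k * g * m.φ (n 1 2)) (by
    rw [e2]; rw [e] at e1; convert e1 using 1; group) (by
    rw [e2]
    intro e'
    exact absurd (Fr.φ_eq.1 (mul_left_cancel (mul_right_cancel (e'.trans (cz (mul_mem kH hg)).symm))))
      (by decide +kernel))
  have pH : m.φ l * y * k * g ∈ m.H :=
    mul_mem (mul_mem (mul_mem (hH (Fr.φ_mem.2 hl)) (Fr.mem_H.2 (Fr.mem_C2.1 hy).1)) kH) hg
  have := h2 (Fr.mem_C2.2 ⟨Fr.mem_H.1 pH, mul_inv_eq_iff_eq_mul.1 (by rw [e2] at e3; refine Eq.trans ?_ e3; group)⟩)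
  exact (mul_mem_cancel_left (mul_mem (mul_mem (mem_sup_left (⟨l, rfl⟩ : m.φ l ∈ m.N)) (h2 hy))
    (sup_le_sup_right Fr.im_le_N _ hk))).1 this

end CfsgLib.L5R
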