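import Mathlib
import Cfsg.Agent.Lib.L5R.T4
import Cfsg.Agent.Lib.L5R.Orb

/-!
# `Y ≤ N` gives `C(z) ≤ N` (plans/L5R.md)
-/

set_option autoImplicit false
set_option maxHeartbeats 400000
set_option Elab.async false

namespace CfsgLib.L5R

open Subgroup Cfsg CfsgLib.Tech CfsgLib.Held CfsgLib.MOrb CfsgLib.L72 CfsgLib.LargeExtra CfsgLib.ExtraTwo

variable {G : Type*} [Group G] [Finite G] {m : Fr G}

namespace T5b

/-- the dihedral argument -/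
theorem dih {X : Type*} [Group X] [Finite X] {K : Subgroup X} {Ty : X → Prop} {d t a : X}
    (h1 : ∀ x, Ty x → x ≠ 1 ∧ x * x = 1) (h2 : ∀ g x, Ty x → Ty (g * x * g⁻¹))
    (hE : ∀ x ∈ K, x ≠ 1 → x * x = 1 → (Ty x ↔ Commute x d))
    (hU : ∀ x ∈ K, Ty x → ∀ h, h⁻¹ * x * h ∈ K → h ∈ K) (ht : Ty t) (ha : Ty a) (tK : t ∈ K) (aK : a ∈ K)
    (hn : ∀ k ∈ K, k * a * k⁻¹ ≠ t) (h : X) : h ∈ K := by
  obtain ⟨b, hb⟩ : ∃ b, b = h * a * h⁻¹ := ⟨_, rfl⟩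
  have tb : Ty b := hb ▸ h2 h a ha
  have t2 := (h1 t ht).2
  have b2 := (h1 b tb).2
  have ti := inv_eq_of_mul_eq_one_right t2
  have bi := inv_eq_of_mul_eq_one_right b2
  have st : SemiconjBy t (t * b) (t * b)⁻¹ := by
    change _ * _ = _ * _
    rw [mul_inv_rev, ti, bi, ← mul_assoc, t2, one_mul, mul_assoc, t2, mul_one]
  have sb : SemiconjBy b (t * b) (t * b)⁻¹ := by
    change _ * _ = _ * _
    rw [mul_inv_rev, ti, bi, mul_assoc]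
  have e0 : ∀ j : ℕ, t * (t * b) ^ (2 * j) = ((t * b) ^ j)⁻¹ * t * ((t * b) ^ j)⁻¹⁻¹ := fun j => by
    rw [← inv_pow, ← (st.pow_right j).eq, inv_pow, inv_inv, mul_assoc t, ← pow_add, two_mul]
  have e1 : ∀ j : ℕ, t * (t * b) ^ (2 * j + 1) = ((t * b) ^ j)⁻¹ * b * ((t * b) ^ j)⁻¹⁻¹ := fun j => by
    rw [← inv_pow, ← (sb.pow_right j).eq, inv_pow, inv_inv, mul_assoc b, ← pow_add, two_mul, pow_succ', ← mul_assoc,
      ← mul_assoc, t2, one_mul]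
  obtain ⟨n, hn' | hn'⟩ := Nat.even_or_odd' (orderOf (t * b))
  · obtain ⟨i, hi⟩ : ∃ i, i = (t * b) ^ n := ⟨_, rfl⟩
    have hp := orderOf_pos (t * b)
    have i1 : i ≠ 1 := hi ▸ pow_ne_one_of_lt_orderOf (by omega) (by omega)
    have i2 : i * i = 1 := by rw [hi, ← pow_add, ← two_mul, ← hn', pow_orderOf_eq_one]
    have ii := inv_eq_of_mul_eq_one_right i2
    have it : t * i = i * t := by nth_rw 2 [← ii]; rw [hi, ← inv_pow]; exact (st.pow_right n).eq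
    have ib : b * i = i * b := by nth_rw 2 [← ii]; rw [hi, ← inv_pow]; exact (sb.pow_right n).eq
    have iK := hU t tK ht i (by rwa [mul_assoc, it, inv_mul_cancel_left])
    have iK' := hU a aK ha (h⁻¹ * i * h) (by
      rwa [show (h⁻¹ * i * h)⁻¹ * a * (h⁻¹ * i * h) = h⁻¹ * (i⁻¹ * (h * a * h⁻¹ * i)) * h by group, ← hb, ib,
        inv_mul_cancel_left, hb, show h⁻¹ * (h * a * h⁻¹) * h = a by group])
    have Ti : Ty (t * i) := by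
      obtain ⟨j, rfl | rfl⟩ := Nat.even_or_odd' n
      · rw [hi, e0]; exact h2 _ _ ht
      · rw [hi, e1]; exact h2 _ _ tb
    have k1 := (hE _ (mul_mem tK iK) (h1 _ Ti).1 (h1 _ Ti).2).1 Ti
    have k2 := ((hE _ tK (h1 _ ht).1 t2).1 ht).inv_left.mul_left k1
    rw [inv_mul_cancel_left] at k2
    exact hU i iK ((hE i iK i1 i2).2 k2) h iK'
  · have k := e1 n
    rw [← hn', pow_orderOf_eq_one, mul_one] at k
    have k1 : ((t * b) ^ n)⁻¹ * h * a * (((t * b) ^ n)⁻¹ * h)⁻¹ = t := by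
      nth_rw 3 [k]; nth_rw 4 [hb]; group
    refine (hn _ (hU t tK ht _ ?_) k1).elim
    generalize ((t * b) ^ n)⁻¹ * h = g at k1
    rwa [← k1, show g⁻¹ * (g * a * g⁻¹) * g = a by group]

theorem ev0 {M X : Type*} [Group M] [Group X] {H Q : Subgroup M} (ρ : H →* X) (ρ1 : ∀ x, ρ x = 1 ↔ (x : M) ∈ Q)
    (x k d : H) (h : (k : M)⁻¹ * d * (k : M)⁻¹⁻¹ * (d : M)⁻¹ ∈ Q ∨ (k : M)⁻¹ * d * (k : M)⁻¹⁻¹ * d ∈ Q) :
    (k : M) * x * (k : M)⁻¹ * d * ((k : M) * x * (k : M)⁻¹)⁻¹ * (d : M)⁻¹ ∈ Q ↔ Commute (ρ x) (ρ d) := by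
  have a : (k : M) * x * (k : M)⁻¹ * d * ((k : M) * x * (k : M)⁻¹)⁻¹ * (d : M)⁻¹ ∈ Q ↔
      Commute (ρ x) (ρ (k⁻¹ * d * k⁻¹⁻¹)) := by
    refine (ρ1 (k * x * k⁻¹ * d * (k * x * k⁻¹)⁻¹ * d⁻¹)).symm.trans ?_
    rw [commute_iff_eq, ← mul_inv_eq_one (a := ρ x * _), ← conj_eq_one_iff (a := ρ k) (b := _ * _ * _)]
    simp only [map_mul, map_inv]
    exact Eq.congr_left (by group)
  rw [a]
  rcases h with h | h
  · have k := (ρ1 (k⁻¹ * d * k⁻¹⁻¹ * d⁻¹)).2 h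
    rw [map_mul, map_inv] at k
    rw [mul_inv_eq_one.1 k]
  · have k := (ρ1 (k⁻¹ * d * k⁻¹⁻¹ * d)).2 h
    rw [map_mul] at k
    rw [eq_inv_of_mul_eq_one_left k, Commute.inv_right_iff]

theorem ncj {M X : Type*} [Group M] [Group X] {H Q : Subgroup M} (ρ : H →* X) (ρ1 : ∀ x, ρ x = 1 ↔ (x : M) ∈ Q)
    {k a b : H} (b2 : (b : M) * b = 1) (h : ρ k * ρ a * (ρ k)⁻¹ = ρ b) : (k : M) * a * (k : M)⁻¹ * b ∈ Q :=
  (ρ1 (k * a * k⁻¹ * b)).1 (by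
    rw [map_mul, map_mul, map_mul, map_inv, h, ← map_mul, show b * b = 1 from Subtype.ext b2, map_one])

theorem nQ {k x : Mo} (hk : k ∈ H0) : k * x * k⁻¹ ∈ Q0 ↔ x ∈ Q0 := (mem_normalizer_iff.1 (H0_norm hk) x).symm

theorem T0_le : T0 ≤ H0 := pat_le (by decide) (by decide)

theorem toT {x : Mo} (hx : x ∈ H0) (sq : x * x ∈ Q0) : ∃ k ∈ H0, k * x * k⁻¹ ∈ T0 := by
  have := Fact.mk Nat.prime_two
  refine (syl_T0.of_le T0_le le_top).exists_conj_mem hx (isPGroup_zpowers_of_pow (k := 14) ?_)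
  rw [pow_succ', pow_mul, pow_two x, ← card_Q0]
  exact congrArg Subtype.val (pow_card_eq_one' (x := (⟨_, sq⟩ : Q0)))

omit [Finite G] in
theorem φH {x : Mo} : m.φ x ∈ m.H ↔ x ∈ H0 := by rw [Fr.mem_H, ← map_mul, ← map_mul, Fr.φ_eq, mem_H0]

omit [Finite G] in
theorem cS_cj (c : CI m) {h : G} (hh : h ∈ m.H) (x : G) :
    (cS m.Q m.z {h * x * h⁻¹}).ncard = (cS m.Q m.z {x}).ncard := by
  have k := ncard_cS_map (Q := m.Q) (z := m.z) (f := (MulAut.conj h).toMonoidHom) (MulAut.conj h).injective {x}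
  have e1 : m.Q.map (MulAut.conj h).toMonoidHom = m.Q := le_antisymm (cj_le_iff.2 (c.pre.norm h (Fr.mem_H.1 hh)))
    (le_cj_iff.2 fun q hq => by simpa using c.pre.norm h⁻¹ (Fr.mem_H.1 (inv_mem hh)) q hq)
  have e2 : (MulAut.conj h).toMonoidHom m.z = m.z := mul_inv_eq_iff_eq_mul.2 (Fr.mem_H.1 hh)
  rwa [e1, e2, Set.image_singleton] at k

omit [Finite G] in
theorem cS_φ (x : Mo) : (cS m.Q m.z {m.φ x}).ncard = (cS Q0 z0 {x}).ncard := by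
  rw [← ncard_cS_map m.inj, Set.image_singleton]

omit [Finite G] in
theorem ty (c : CI m) {x : Mo} (hx : x ∈ H0) (h1 : x ∉ Q0) (sq : x * x ∈ Q0) : ∃ k ∈ H0, k * x * k⁻¹ ∈ T0 ∧
    (k * x * k⁻¹ ∈ Tz ↔ (cS m.Q m.z {m.φ x}).ncard = 512) := by
  obtain ⟨k, hk, hT⟩ := toT hx sq
  have e := cS_cj c (φH.2 hk) (m.φ x)
  rw [← map_inv, ← map_mul, ← map_mul, cS_φ] at e
  have sq' : k * x * k⁻¹ * (k * x * k⁻¹) ∈ Q0 := by rw [conj_mul]; exact (nQ hk).2 sq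
  refine ⟨k, hk, hT, fun h => e ▸ f1a h (fun a => h1 ((nQ hk).1 a)) sq', fun h => by_contra fun a => ?_⟩
  rw [f1b hT a sq', h] at e
  omega

theorem C2_le (c : CI m) (hY : m.Y ≤ m.N) : m.C2 ≤ m.im H0 := fun g hg => by
  obtain ⟨x, -, hx⟩ := c.t2 hg
  obtain ⟨y, hy⟩ := hY hx
  have e : g = m.φ (x * y) := by rw [map_mul, hy, mul_inv_cancel_left]
  exact ⟨x * y, φH.1 (e ▸ Fr.mem_H.2 (Fr.mem_C2.1 hg).1), e.symm⟩

/-- a typed involution lies in a unique conjugate of `K` -/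
theorem uniq (c : CI m) (hY : m.Y ≤ m.N) {j j' : Mo} (hj : j ∈ Tz) (h1 : j ∉ Q0) (sq : j * j ∈ Q0) (hj' : j' ∈ Tz)
    (sq' : j' * j' ∈ Q0) {h : G} (hh : h ∈ m.H) (e : h * m.φ j * h⁻¹ = m.φ j') : h ∈ m.im H0 := by
  obtain ⟨q, hq, k, hk, e1⟩ := g1b hj h1 sq
  obtain ⟨q', hq', e2⟩ := c.pre.norm h (Fr.mem_H.1 hh) _ (Fr.φ_mem.2 hq)
  obtain ⟨r1, r2⟩ := g1a hj' sq' hq'
  have jH : j' ∈ H0 := pat_le (by decide) (by decide) hj'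
  obtain ⟨l, hl, hU⟩ := orb1 (by
    rw [mul_assoc, mul_assoc, ← mul_assoc j']; exact mul_mem hq' ((nQ jH).2 (inv_mem hq'))) r2 r1
  obtain ⟨g, hg⟩ : ∃ g, g = m.φ l * h * (m.φ k)⁻¹ := ⟨_, rfl⟩
  have gH : g ∈ m.H := hg ▸ mul_mem (mul_mem (φH.2 hl) hh) (inv_mem (φH.2 hk))
  have e3 : g * m.φ (n 1 2) * m.z * (g * m.φ (n 1 2))⁻¹ = g * m.w * g⁻¹ := by
    rw [Fr.w, ← n_z0, mul_inv_rev, ← map_inv, n_inv, map_mul, map_mul]; simp only [mul_assoc]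
  have e4 : g * m.w * g⁻¹ = m.φ (l * (q' * j' * q'⁻¹ * j'⁻¹) * l⁻¹) := by
    rw [Fr.w, ← e1, hg]
    simp only [map_mul, map_inv, e2, ← e]
    group
  obtain ⟨y, hy, k', hk', e5⟩ := c.t4 (g := g * m.φ (n 1 2)) (by rw [e3, e4]; exact Fr.φ_mem.2 hU) (by
    rw [e3]
    intro a
    rw [mul_inv_eq_iff_eq_mul, ← Fr.mem_H.1 gH, mul_right_inj, Fr.φ_eq] at a
    exact absurd a (by decide +kernel))
  rw [e3] at e5
  have m1 : m.φ k' * y * g ∈ m.im H0 := C2_le c hY (Fr.mem_C2.2 ⟨Fr.mem_H.1 (mul_mem (mul_mem (φH.2 hk')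
    (Fr.mem_H.2 (Fr.mem_C2.1 hy).1)) gH), mul_inv_eq_iff_eq_mul.1 (by rw [← e5]; nth_rw 1 [e5]; group)⟩)
  rwa [mul_mem_cancel_left (mul_mem (Fr.φ_mem.2 hk') (C2_le c hY hy)), hg,
    mul_mem_cancel_right (inv_mem (Fr.φ_mem.2 hk)), mul_mem_cancel_left (Fr.φ_mem.2 hl)] at m1

end T5b

open T5b in
theorem CI.t5b (c : CI m) (hY : m.Y ≤ m.N) : m.H ≤ m.N := by
  have : (m.Q.subgroupOf m.H).Normal := ⟨fun x hx g => c.pre.norm g (Fr.mem_H.1 g.2) x hx⟩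
  let π := QuotientGroup.mk' (m.Q.subgroupOf m.H)
  have π1 : ∀ x : m.H, π x = 1 ↔ (x : G) ∈ m.Q := fun x => QuotientGroup.eq_one_iff (N := m.Q.subgroupOf m.H) x
  let ι : H0 →* m.H := (m.φ.comp H0.subtype).codRestrict _ fun x => φH.2 x.2
  have ρ1 : ∀ x : H0, π (ι x) = 1 ↔ (x : Mo) ∈ Q0 := fun x => (π1 _).trans Fr.φ_mem
  have QH : Q0 ≤ H0 := pat_le (by decide) (by decide)
  have memK : ∀ h : m.H, π h ∈ (π.comp ι).range ↔ (h : G) ∈ m.im H0 := fun h => by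
    refine ⟨fun ⟨k, e⟩ => ?_, fun ⟨k, hk, e⟩ => ⟨⟨k, hk⟩, congrArg π (Subtype.ext e)⟩⟩
    have k1 := Fr.im_le.2 QH ((π1 ((ι k)⁻¹ * h)).1 (by rw [map_mul, map_inv, ← e]; exact inv_mul_cancel _))
    exact (mul_mem_cancel_left (inv_mem (Fr.φ_mem.2 k.2))).1 k1
  let Ty : m.H ⧸ m.Q.subgroupOf m.H → Prop := fun x => ∃ y : m.H, π y = x ∧ (y : G) ∉ m.Q ∧ (y : G) * y ∈ m.Q ∧
    (cS m.Q m.z {(y : G)}).ncard = 512
  have nq : ∀ (g : m.H) {x : G}, x ∈ m.Q → g * x * (g : G)⁻¹ ∈ m.Q := fun g x => c.pre.norm g (Fr.mem_H.1 g.2) x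
  -- typed elements of `K` are the even ones
  have ev : ∀ x : H0, (x : Mo) ∉ Q0 → (x : Mo) * x ∈ Q0 →
      ((cS m.Q m.z {m.φ x}).ncard = 512 ↔ Commute (π.comp ι x) (π.comp ι ⟨d0, d0_H0⟩)) := fun x h1 sq => by
    obtain ⟨k, hk, hT, e⟩ := ty c x.2 h1 sq
    lift k to H0 using hk
    rw [← e, ← ev0 (π.comp ι) ρ1 x k ⟨d0, d0_H0⟩ (H0_d0 (inv_mem k.2))]
    refine ⟨fun a => Tz_d0 a, fun a => by_contra fun b => d0_not ?_⟩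
    have a3 := mul_mem (inv_mem a) (T0_d0 hT b)
    rwa [mul_inv_rev, inv_inv, mul_assoc, inv_mul_cancel_left] at a3
  have mk : ∀ x : H0, (x : Mo) ∈ Tz → (x : Mo) ∉ Q0 → (x : Mo) * x = 1 → Ty (π (ι x)) := fun x h1 h2 h3 =>
    ⟨ι x, rfl, fun a => h2 (Fr.φ_mem.1 a), by
      change m.φ x * m.φ x ∈ _
      rw [← map_mul, h3, map_one]; exact one_mem _, (cS_φ _).trans (f1a h1 h2 (h3 ▸ one_mem _))⟩
  have rep : ∀ y : m.H, (y : G) ∈ m.im H0 → (y : G) ∉ m.Q → (y : G) * y ∈ m.Q →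
      ∃ x : H0, ι x = y ∧ (x : Mo) ∉ Q0 ∧ (x : Mo) * x ∈ Q0 := fun y ⟨x, hx, e⟩ h1 h2 =>
    ⟨⟨x, hx⟩, Subtype.ext e, fun a => h1 (e ▸ Fr.φ_mem.2 a), (Fr.φ_mem (m := m)).1 (by rw [map_mul]; exact e.symm ▸ h2)⟩
  intro h hh
  obtain ⟨tt, htt⟩ : ∃ x : H0, (x : Mo) = e 3 4 := ⟨⟨_, by decide +kernel⟩, rfl⟩
  obtain ⟨aa, haa⟩ : ∃ x : H0, (x : Mo) = t 3 4 := ⟨⟨_, by decide +kernel⟩, rfl⟩
  refine Fr.im_le_N ((memK ⟨h, hh⟩).1 (dih (K := (π.comp ι).range) (Ty := Ty) (d := π (ι ⟨d0, d0_H0⟩))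
    (t := π (ι tt)) (a := π (ι aa)) ?_ ?_ ?_ ?_
    (mk _ (by rw [htt]; decide +kernel) (by rw [htt]; decide +kernel) (by rw [htt, e_sq]))
    (mk _ (by rw [haa]; decide +kernel) (by rw [haa]; decide +kernel) (by rw [haa, t_sq]))
    (MonoidHom.mem_range.2 ⟨_, rfl⟩) (MonoidHom.mem_range.2 ⟨_, rfl⟩) ?_ _))
  · rintro _ ⟨y, rfl, h1, h2, -⟩
    exact ⟨fun a => h1 ((π1 y).1 a), (π1 (y * y)).2 h2⟩
  · rintro g _ ⟨y, rfl, h1, h2, h3⟩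
    obtain ⟨g, rfl⟩ := QuotientGroup.mk'_surjective _ g
    refine ⟨g * y * g⁻¹, rfl, fun a => h1 (by simpa [mul_assoc] using nq g⁻¹ a), ?_, (cS_cj c g.2 _).trans h3⟩
    rw [coe_mul, coe_mul, coe_inv, conj_mul]
    exact nq g h2
  · rintro _ ⟨x, rfl⟩ h1 h2
    refine ⟨fun ⟨y, e, a1, a2, a3⟩ => ?_, fun a => ?_⟩
    · obtain ⟨x', rfl, b1, b2⟩ := rep y ((memK y).1 ⟨x, e.symm⟩) a1 a2
      exact e ▸ (ev x' b1 b2).1 a3
    · have b1 : (x : Mo) ∉ Q0 := fun b => h1 ((ρ1 x).2 b)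
      have b2 : (x : Mo) * x ∈ Q0 := (ρ1 (x * x)).1 (by rw [map_mul, map_mul]; exact h2)
      exact ⟨ι x, rfl, fun b => b1 (Fr.φ_mem.1 b), by
        change m.φ x * m.φ x ∈ _
        rw [← map_mul]; exact Fr.φ_mem.2 b2, (ev x b1 b2).2 a⟩
  · rintro _ hx ⟨y, rfl, a1, a2, a3⟩ g hg
    obtain ⟨g, rfl⟩ := QuotientGroup.mk'_surjective _ g
    have a1' : ((g⁻¹ * y * g : m.H) : G) ∉ m.Q := fun a => a1 (by simpa [mul_assoc] using nq g a)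
    have a2' : ((g⁻¹ * y * g : m.H) : G) * (g⁻¹ * y * g : m.H) ∈ m.Q := by simpa [mul_assoc] using nq g⁻¹ a2
    have a3' : (cS m.Q m.z {((g⁻¹ * y * g : m.H) : G)}).ncard = 512 := by
      simpa [a3] using cS_cj c (inv_mem g.2) y
    obtain ⟨x, e1, b1, b2⟩ := rep _ ((memK (g⁻¹ * y * g)).1 hg) a1' a2'
    obtain ⟨x', rfl, b1', b2'⟩ := rep y ((memK y).1 hx) a1 a2
    obtain ⟨k, hk, -, f⟩ := ty c x.2 b1 b2
    obtain ⟨k', hk', -, f'⟩ := ty c x'.2 b1' b2'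
    have e2 : m.φ x = (g : G)⁻¹ * m.φ x' * g := congrArg Subtype.val e1
    have u := uniq c hY (f.2 (e2 ▸ a3')) (fun a => b1 ((nQ hk).1 a)) (by rw [conj_mul]; exact (nQ hk).2 b2) (f'.2 a3)
      (by rw [conj_mul]; exact (nQ hk').2 b2') (mul_mem (mul_mem (φH.2 hk') g.2) (inv_mem (φH.2 hk))) (by
        simp only [map_mul, map_inv, e2]; group)
    rw [mul_mem_cancel_right (inv_mem (Fr.φ_mem.2 hk)), mul_mem_cancel_left (Fr.φ_mem.2 hk')] at u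
    exact (memK g).2 u
  · rintro _ ⟨k, rfl⟩ a
    have a1 := ncj (π.comp ι) ρ1 (k := k) (a := aa) (b := tt) (by rw [htt, e_sq]) a
    rw [htt, haa] at a1
    exact e34_not k.2 a1

end CfsgLib.L5R
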