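import Mathlib
import Cfsg.Agent.Lib.L5R.Rc5
import Cfsg.Agent.Lib.L5R.T3a
import Cfsg.Agent.Lib.L5R.T3b
import Cfsg.Agent.Lib.L5R.T5a
import Cfsg.Agent.Lib.L5R.T5b
import Cfsg.Agent.Lib.L5R.Pre
import Cfsg.Agent.Lib.L5R.Nr

/-!
# `⟨N, ν⟩ = Ω⁺(10, 2)`; case I (plans/L5R.md)
-/

set_option autoImplicit false
set_option maxHeartbeats 400000
set_option Elab.async false

namespace CfsgLib.L5R

open Subgroup Cfsg CfsgLib.Tech CfsgLib.Held CfsgLib.MOrb CfsgLib.L72 CfsgLib.LargeExtra CfsgLib.ExtraTwo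

variable {G : Type*} [Group G] [Finite G] {m : Fr G}

namespace Ctx

theorem n_t {a b i j : Fin 5} (h : a ≠ b) (h' : i ≠ j) :
    n a b * t i j * n a b = t (Equiv.swap a b i) (Equiv.swap a b j) := by
  rw [(((cd_n h).mul (cd_t h')).mul (cd_n h)).eq_iff (cd_t ((Equiv.swap a b).injective.ne h'))]
  revert a b i j
  decide +kernel

theorem n_e {a b i j : Fin 5} (h : a ≠ b) (h' : i ≠ j) :
    n a b * e i j * n a b = e (Equiv.swap a b i) (Equiv.swap a b j) := by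
  rw [(((cd_n h).mul (cd_e h')).mul (cd_n h)).eq_iff (cd_e ((Equiv.swap a b).injective.ne h'))]
  revert a b i j
  decide +kernel

/-- the relations at a bond -/
def Bd {G : Type*} [Group G] (a n c k : G) : Prop :=
  k * n * k = n * k * n ∧ c = n * (k * a * k) * n ∧ a * c * a⁻¹ * c⁻¹ = k * a * k ∧
    Commute a (k * a * k) ∧ Commute (k * a * k) c

/-- the relations at a pair of nodes that are not joined -/
def Cm {G : Type*} [Group G] (a n c k : G) : Prop := Commute a c ∧ Commute a k ∧ Commute n c ∧ Commute n k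

omit [Finite G] in
theorem Bd.map {a n c k : Mo} (f : Mo →* G) (h : Bd a n c k) : Bd (f a) (f n) (f c) (f k) := by
  obtain ⟨h1, h2, h3, h4, h5⟩ := h
  refine ⟨?_, ?_, ?_, ?_, ?_⟩
  · simpa only [map_mul] using congrArg f h1
  · simpa only [map_mul] using congrArg f h2
  · simpa only [map_mul, map_inv] using congrArg f h3
  · simpa only [map_mul] using h4.map f
  · simpa only [map_mul] using h5.map f

omit [Finite G] in
theorem Cm.map {a n c k : Mo} (f : Mo →* G) (h : Cm a n c k) : Cm (f a) (f n) (f c) (f k) :=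
  ⟨h.1.map f, h.2.1.map f, h.2.2.1.map f, h.2.2.2.map f⟩

theorem bd {i j k : Fin 5} (h1 : i ≠ j) (h2 : j ≠ k) (h3 : i ≠ k) : Bd (e i j) (n i j) (e j k) (n j k) := by
  have a := cd_e h1
  have b := cd_n h1
  have c := cd_e h2
  have d := cd_n h2
  rw [Bd, e_inv, e_inv, commute_iff_eq, commute_iff_eq, ((d.mul b).mul d).eq_iff ((b.mul d).mul b),
    c.eq_iff ((b.mul ((d.mul a).mul d)).mul b), (((a.mul c).mul a).mul c).eq_iff ((d.mul a).mul d),
    a.comm_iff ((d.mul a).mul d), ((d.mul a).mul d).comm_iff c]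
  clear a b c d
  revert i j k
  decide +kernel

theorem cm {i j k l : Fin 5} (h1 : i ≠ j) (h2 : k ≠ l) (h3 : i ≠ k ∧ i ≠ l ∧ j ≠ k ∧ j ≠ l) :
    Cm (e i j) (n i j) (e k l) (n k l) := by
  have a := cd_e h1
  have b := cd_n h1
  have c := cd_e h2
  have d := cd_n h2
  rw [Cm, commute_iff_eq, commute_iff_eq, commute_iff_eq, commute_iff_eq, a.comm_iff c, a.comm_iff d, b.comm_iff c,
    b.comm_iff d]
  clear a b c d
  revert i j k l
  decide +kernel

theorem cmt {i j : Fin 5} (h1 : i ≠ j) (h3 : (i.val ≤ 2 ∧ j.val ≤ 2) ∨ (3 ≤ i.val ∧ 3 ≤ j.val)) :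
    Commute (e i j) (t 3 4) ∧ Commute (n i j) (t 3 4) := by
  have a := cd_e h1
  have b := cd_n h1
  have c := cd_t (i := 3) (j := 4) (by decide)
  rw [commute_iff_eq, commute_iff_eq, a.comm_iff c, b.comm_iff c]
  clear a b c
  revert i j
  decide +kernel

theorem m24 : e 2 3 * t 3 4 * (e 2 3)⁻¹ * (t 3 4)⁻¹ = t 2 4 ∧ Commute (e 2 3) (t 2 4) ∧ Commute (t 2 4) (t 3 4) ∧
    Commute z0 (t 2 4) ∧ Commute z0 (n 2 3) ∧ e 2 3 * n 2 3 * (e 2 3 * n 2 3) * (e 2 3 * n 2 3) = 1 ∧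
    e 0 2 = e 0 1 * e 1 2 * e 0 1 * e 1 2 := by
  have a := cd_e (i := 2) (j := 3) (by decide)
  have b := cd_n (i := 2) (j := 3) (by decide)
  have c := cd_t (i := 3) (j := 4) (by decide)
  have d := cd_t (i := 2) (j := 4) (by decide)
  have z := cd_t (i := 0) (j := 1) (by decide)
  have a1 := cd_e (i := 0) (j := 1) (by decide)
  have a2 := cd_e (i := 1) (j := 2) (by decide)
  have a3 := cd_e (i := 0) (j := 2) (by decide)
  rw [e_inv, t_inv, z0, commute_iff_eq, commute_iff_eq, commute_iff_eq, commute_iff_eq, (((a.mul c).mul a).mul c).eq_iff d,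
    a.comm_iff d, d.comm_iff c, z.comm_iff d, z.comm_iff b, (((a.mul b).mul (a.mul b)).mul (a.mul b)).eq_one,
    a3.eq_iff (((a1.mul a2).mul a1).mul a2)]
  decide +kernel

theorem n_t' {a b i j k l : Fin 5} (h : a ≠ b ∧ i ≠ j ∧ Equiv.swap a b i = k ∧ Equiv.swap a b j = l) :
    n a b * t i j * n a b = t k l := h.2.2.1 ▸ h.2.2.2 ▸ n_t h.1 h.2.1

theorem n_e' {a b i j k l : Fin 5} (h : a ≠ b ∧ i ≠ j ∧ Equiv.swap a b i = k ∧ Equiv.swap a b j = l) :
    n a b * e i j * n a b = e k l := h.2.2.1 ▸ h.2.2.2 ▸ n_e h.1 h.2.1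

theorem lt_cases {p : Fin 5 → Fin 5 → Prop} (h01 : p 0 1) (h02 : p 0 2) (h03 : p 0 3) (h04 : p 0 4) (h12 : p 1 2)
    (h13 : p 1 3) (h14 : p 1 4) (h23 : p 2 3) (h24 : p 2 4) (h34 : p 3 4) (i j : Fin 5) (h : i < j) : p i j := by
  fin_cases i <;> fin_cases j <;> first | exact absurd h (by decide) | assumption

theorem gen_Mo {K : Subgroup Mo} (h0 : n 0 1 ∈ K) (h1 : n 1 2 ∈ K) (h2 : n 2 3 ∈ K) (h3 : n 3 4 ∈ K)
    (he : e 0 1 ∈ K) (ht : t 3 4 ∈ K) : K = ⊤ := by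
  have kt : ∀ {a b i j k l : Fin 5}, n a b ∈ K → t i j ∈ K →
      a ≠ b ∧ i ≠ j ∧ Equiv.swap a b i = k ∧ Equiv.swap a b j = l → t k l ∈ K :=
    fun p q h => n_t' h ▸ mul_mem (mul_mem p q) p
  have ke : ∀ {a b i j k l : Fin 5}, n a b ∈ K → e i j ∈ K →
      a ≠ b ∧ i ≠ j ∧ Equiv.swap a b i = k ∧ Equiv.swap a b j = l → e k l ∈ K :=
    fun p q h => n_e' h ▸ mul_mem (mul_mem p q) p
  have e02 : e 0 2 ∈ K := ke h1 he (by decide)
  have e03 : e 0 3 ∈ K := ke h2 e02 (by decide)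
  have e04 : e 0 4 ∈ K := ke h3 e03 (by decide)
  have e12 : e 1 2 ∈ K := ke h0 e02 (by decide)
  have e13 : e 1 3 ∈ K := ke h0 e03 (by decide)
  have e14 : e 1 4 ∈ K := ke h0 e04 (by decide)
  have e23 : e 2 3 ∈ K := ke h1 e13 (by decide)
  have e24 : e 2 4 ∈ K := ke h1 e14 (by decide)
  have e34 : e 3 4 ∈ K := ke h2 e24 (by decide)
  have t24 : t 2 4 ∈ K := kt h2 ht (by decide)
  have t14 : t 1 4 ∈ K := kt h1 t24 (by decide)
  have t04 : t 0 4 ∈ K := kt h0 t14 (by decide)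
  have t23 : t 2 3 ∈ K := kt h3 t24 (by decide)
  have t13 : t 1 3 ∈ K := kt h3 t14 (by decide)
  have t03 : t 0 3 ∈ K := kt h3 t04 (by decide)
  have t12 : t 1 2 ∈ K := kt h2 t13 (by decide)
  have t02 : t 0 2 ∈ K := kt h2 t03 (by decide)
  have t01 : t 0 1 ∈ K := kt h1 t02 (by decide)
  exact gen_top (gen_up (by decide)
    (fun i j hij _ => lt_cases (p := fun i j => t i j ∈ K) t01 t02 t03 t04 t12 t13 t14 t23 t24 ht i j hij)
    fun i j hij _ => lt_cases (p := fun i j => e i j ∈ K) he e02 e03 e04 e12 e13 e14 e23 e24 e34 i j hij) h0 h1 h2 h3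

/-- generators of `Q0` -/
def gq : Fin 13 → Mo := ![t 0 1, t 0 2, t 0 3, t 0 4, t 1 2, t 1 3, t 1 4, e 0 2, e 0 3, e 0 4, e 1 2, e 1 3, e 1 4]
/-- the action of `ν` -/
def pν : Fin 13 → Fin 13 := ![0, 1, 9, 8, 4, 12, 11, 7, 3, 2, 10, 6, 5]
/-- the action of `n 2 3` -/
def pn : Fin 13 → Fin 13 := ![0, 2, 1, 3, 5, 4, 6, 8, 7, 9, 11, 10, 12]

theorem gen_Q {K : Subgroup Mo} (h : ∀ i, gq i ∈ K) : Q0 ≤ K := by
  have k1 : ∀ i j : Fin 5, i < j → t i j ∈ Q0 → ∃ k : Fin 13, gq k = t i j := by decide +kernel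
  have k2 : ∀ i j : Fin 5, i < j → e i j ∈ Q0 → ∃ k : Fin 13, gq k = e i j := by decide +kernel
  refine gen_up (by decide) (fun i j hij hm => ?_) fun i j hij hm => ?_
  · obtain ⟨k, hk⟩ := k1 i j hij hm
    exact hk ▸ h k
  · obtain ⟨k, hk⟩ := k2 i j hij hm
    exact hk ▸ h k

/-- the codes of the generators -/
def gC : Fin 13 → ℕ := ![tC 0 1, tC 0 2, tC 0 3, tC 0 4, tC 1 2, tC 1 3, tC 1 4, eC 0 2, eC 0 3, eC 0 4, eC 1 2, eC 1 3, eC 1 4]

theorem cd_gq : ∀ i, Cd (gq i) (gC i) := by decide +kernel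

theorem n_gq (i : Fin 13) : n 2 3 * gq i * n 2 3 = gq (pn i) := by
  have b := cd_n (i := 2) (j := 3) (by decide)
  rw [((b.mul (cd_gq i)).mul b).eq_iff (cd_gq _)]
  revert i
  decide +kernel

omit [Finite G] in
theorem cj_of_comm {ν x : G} (sq : ν * ν = 1) (h : ν * x = x * ν) : ν * x * ν = x := by
  rw [h, mul_assoc, sq, mul_one]

omit [Finite G] in
theorem cj_symm {ν x y : G} (sq : ν * ν = 1) (h : ν * x * ν = y) : ν * y * ν = x := by
  rw [← h, ← mul_assoc, ← mul_assoc, sq, one_mul, mul_assoc, sq, mul_one]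

omit [Finite G] in
theorem ν_Z3 {ν : G} (h : N5 m ν) {x : Mo} (hx : x ∈ Z3) : ν * m.φ x = m.φ x * ν := (h.memY _ (Fr.φ_mem.2 hx)).symm

omit [Finite G] in
theorem ν_gq {ν : G} (h : N5 m ν) (i : Fin 13) : ν * m.φ (gq i) * ν = m.φ (gq (pν i)) := by
  have c01 : Commute ν (m.φ (e 0 1)) := h.com _ (by simp)
  have c12 : Commute ν (m.φ (e 1 2)) := h.com _ (by simp)
  have c02 : Commute ν (m.φ (e 0 2)) := by
    rw [m24.2.2.2.2.2.2, map_mul, map_mul, map_mul]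
    exact ((c01.mul_right c12).mul_right c01).mul_right c12
  fin_cases i
  · exact cj_of_comm h.sq (ν_Z3 h (x := t 0 1) (by decide +kernel))
  · exact cj_of_comm h.sq (ν_Z3 h (x := t 0 2) (by decide +kernel))
  · exact h.c3 0 (by decide)
  · exact h.c4 0 (by decide)
  · exact cj_of_comm h.sq (ν_Z3 h (x := t 1 2) (by decide +kernel))
  · exact h.c3 1 (by decide)
  · exact h.c4 1 (by decide)
  · exact cj_of_comm h.sq c02
  · exact cj_symm h.sq (h.c4 0 (by decide))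
  · exact cj_symm h.sq (h.c3 0 (by decide))
  · exact cj_of_comm h.sq c12
  · exact cj_symm h.sq (h.c4 1 (by decide))
  · exact cj_symm h.sq (h.c3 1 (by decide))

omit [Finite G] in
theorem braid (c : CI m) {ν : G} (h : N5 m ν) : ν * m.φ (n 2 3) * ν = m.φ (n 2 3) * ν * m.φ (n 2 3) := by
  have ns : m.φ (n 2 3) * m.φ (n 2 3) = 1 := by rw [← map_mul, n_sq, map_one]
  have n1 : ∀ i, m.φ (n 2 3) * m.φ (gq i) * m.φ (n 2 3) = m.φ (gq (pn i)) := fun i => by
    rw [← map_mul, ← map_mul, n_gq]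
  have u1 : ν * m.φ (e 2 3) * ν = m.φ (t 2 4) := cj_symm h.sq (h.c4 2 (by decide))
  have u2 : m.φ (n 2 3) * m.φ (t 3 4) * m.φ (n 2 3) = m.φ (t 2 4) := by
    rw [← map_mul, ← map_mul, n_t' (k := 2) (l := 4) (by decide)]
  have u3 : (m.φ (e 2 3) * m.φ (n 2 3)) ^ 3 = 1 := by
    rw [pow_three', ← map_mul, ← map_mul, ← map_mul, m24.2.2.2.2.2.1, map_one]
  have z1 : Commute m.z (m.φ (t 2 4)) := m24.2.2.2.1.map m.φ
  have z2 : Commute m.z (m.φ (n 2 3)) := m24.2.2.2.2.1.map m.φ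
  have z3 : Commute m.z ν := (ν_Z3 h (x := z0) (by decide +kernel)).symm
  have t3 := h.three
  have hs := h.sq
  have n2 := ν_gq h
  generalize m.φ (n 2 3) = k at *
  have ki : k⁻¹ = k := inv_eq_of_mul_eq_one_right ns
  have νi : ν⁻¹ = ν := inv_eq_of_mul_eq_one_right hs
  have hy : ∀ q ∈ m.Q, q * (ν * k * ν * (k * ν * k)⁻¹) = ν * k * ν * (k * ν * k)⁻¹ * q := by
    rintro _ ⟨q, hq, rfl⟩
    refine gen_Q (K := (centralizer {ν * k * ν * (k * ν * k)⁻¹}).comap m.φ) (fun i => ?_) hq |>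
      mem_centralizer_singleton_iff.1
    refine mem_centralizer_singleton_iff.2 ?_
    have e1 : pν (pn (pν (pn (pν (pn i))))) = i := by revert i; decide
    have e2 : m.φ (gq i) = ν * (k * (ν * (k * (ν * (k * m.φ (gq i) * k) * ν) * k) * ν) * k) * ν := by
      rw [n1, n2, n1, n2, n1, n2, e1]
    conv_lhs => rw [e2]
    simp only [mul_inv_rev, ki, νi, mul_assoc]
    rw [← mul_assoc ν ν, hs, one_mul, ← mul_assoc k k, ns, one_mul, ← mul_assoc ν ν, hs, one_mul, ← mul_assoc k k, ns,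
      one_mul, ← mul_assoc ν ν, hs, one_mul, ns, mul_one]
  rcases c.pre.cent _ hy with e | e
  · exact mul_inv_eq_one.1 e
  · exfalso
    have v1 : (m.φ (t 2 4) * (ν * k * ν)) ^ 3 = 1 := by
      have : m.φ (t 2 4) * (ν * k * ν) = ν * (m.φ (L5R.e 2 3) * k) * ν⁻¹ := by
        rw [← u1, νi]
        simp only [mul_assoc]
        rw [← mul_assoc ν ν, hs, one_mul]
      rw [this, conj_pow, u3, mul_one, mul_inv_cancel]
    have v2 : (m.φ (t 2 4) * (k * ν * k)) ^ 3 = 1 := by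
      have : m.φ (t 2 4) * (k * ν * k) = k * (m.φ (t 3 4) * ν) * k⁻¹ := by
        rw [← u2, ki]
        simp only [mul_assoc]
        rw [← mul_assoc k k, ns, one_mul]
      rw [this, conj_pow, t3, mul_one, mul_inv_cancel]
    rw [mul_inv_eq_iff_eq_mul.1 e, ← mul_assoc, ← z1.eq, mul_assoc,
      (z1.mul_right ((z2.mul_right z3).mul_right z2)).mul_pow, v2, mul_one, pow_three, c.pre.es.mul_self, mul_one] at v1
    exact c.pre.es.ne_one v1

end Ctx

open Ctx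

theorem CI.ct [IsSimpleGroup G] (c : CI m) {ν : G} (h : N5 m ν) (ht : m.N ⊔ zpowers ν = ⊤) : Nonempty (G ≃* Om10) := by
  have hZ : center G = ⊥ := by
    refine (IsSimpleGroup.eq_bot_or_eq_top_of_normal (center G) inferInstance).resolve_right fun e => ?_
    obtain ⟨x, -, y, -, hxy⟩ := c.pre.es.nonab
    exact hxy (mem_center_iff.1 (e.ge (mem_top y)) x)
  have es : ∀ i j, m.φ (e i j) * m.φ (e i j) = 1 := fun i j => by rw [← map_mul, e_sq, map_one]
  have ns : ∀ i j, m.φ (n i j) * m.φ (n i j) = 1 := fun i j => by rw [← map_mul, n_sq, map_one]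
  have ts : m.φ (t 3 4) * m.φ (t 3 4) = 1 := by rw [← map_mul, t_sq, map_one]
  have u1 : ν * m.φ (e 2 3) * ν = m.φ (t 2 4) := cj_symm h.sq (h.c4 2 (by decide))
  have c4 : ∀ i j : Fin 5, i ≠ j → (i.val ≤ 2 ∧ j.val ≤ 2) ∨ (3 ≤ i.val ∧ 3 ≤ j.val) →
      e i j ∈ [e 0 1, e 1 0, e 1 2, e 2 1, e 3 4, e 4 3] → e j i ∈ [e 0 1, e 1 0, e 1 2, e 2 1, e 3 4, e 4 3] →
      Cm (m.φ (e i j)) (m.φ (n i j)) (m.φ (t 3 4)) ν := fun i j h1 h2 h3 h4 => by
    have a : Commute (m.φ (e i j)) ν := (h.com _ h3).symm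
    have b : Commute (m.φ (e j i)) ν := (h.com _ h4).symm
    refine ⟨(cmt h1 h2).1.map m.φ, a, (cmt h1 h2).2.map m.φ, ?_⟩
    rw [n_eq, map_mul, map_mul]
    exact a.mul_left (b.mul_left a)
  refine recog5 hZ ![m.φ (e 0 1), m.φ (e 1 2), m.φ (e 2 3), m.φ (e 3 4), m.φ (t 3 4)]
    ![m.φ (n 0 1), m.φ (n 1 2), m.φ (n 2 3), m.φ (n 3 4), ν] (fun i => ?_) (fun i => ?_) (fun p hp => ?_)
    (fun p hp => ?_) fun K hK => ?_
  · fin_cases i
    exacts [es _ _, es _ _, es _ _, es _ _, ts]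
  · fin_cases i
    exacts [ns _ _, ns _ _, ns _ _, ns _ _, h.sq]
  · simp only [List.mem_cons, List.not_mem_nil, or_false] at hp
    rcases hp with rfl | rfl | rfl | rfl
    · exact (bd (i := 0) (j := 1) (k := 2) (by decide) (by decide) (by decide)).map m.φ
    · exact (bd (i := 1) (j := 2) (k := 3) (by decide) (by decide) (by decide)).map m.φ
    · exact (bd (i := 2) (j := 3) (k := 4) (by decide) (by decide) (by decide)).map m.φ
    · change Bd (m.φ (e 2 3)) (m.φ (n 2 3)) (m.φ (t 3 4)) ν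
      rw [Bd, u1]
      refine ⟨braid c h, ?_, ?_, m24.2.1.map m.φ, m24.2.2.1.map m.φ⟩
      · rw [← map_mul, ← map_mul, n_t' (k := 3) (l := 4) (by decide)]
      · simpa only [map_mul, map_inv] using congrArg m.φ m24.1
  · simp only [List.mem_cons, List.not_mem_nil, or_false] at hp
    rcases hp with rfl | rfl | rfl | rfl | rfl | rfl
    · exact (cm (i := 0) (j := 1) (k := 2) (l := 3) (by decide) (by decide) (by decide)).map m.φ
    · exact (cm (i := 0) (j := 1) (k := 3) (l := 4) (by decide) (by decide) (by decide)).map m.φ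
    · exact c4 0 1 (by decide) (by decide) (by simp) (by simp)
    · exact (cm (i := 1) (j := 2) (k := 3) (l := 4) (by decide) (by decide) (by decide)).map m.φ
    · exact c4 1 2 (by decide) (by decide) (by simp) (by simp)
    · exact c4 3 4 (by decide) (by decide) (by simp) (by simp)
  · have k : ∀ i j : Fin 5, i ≠ j → m.φ (e i j) ∈ K ∧ m.φ (n i j) * m.φ (e i j) * m.φ (n i j) ∈ K → n i j ∈ K.comap m.φ :=
      fun i j hij ⟨a, b⟩ => by
        rw [← map_mul, ← map_mul, n_e hij hij, Equiv.swap_apply_left, Equiv.swap_apply_right] at b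
        rw [n_eq]
        exact mul_mem a (mul_mem b a)
    have h1 := gen_Mo (k 0 1 (by decide) (hK 0)) (k 1 2 (by decide) (hK 1)) (k 2 3 (by decide) (hK 2))
      (k 3 4 (by decide) (hK 3)) (hK 0).1 (hK 4).1
    have h2 : ν ∈ K := by
      have a : m.φ (t 3 4) ∈ K := (hK 4).1
      have b : ν * m.φ (t 3 4) * ν ∈ K := (hK 4).2
      have d : m.φ (t 3 4) * (ν * m.φ (t 3 4) * ν) * m.φ (t 3 4) * ν = 1 := by
        rw [← h.three, pow_three']; simp only [mul_assoc]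
      rw [← inv_mem_iff, ← eq_inv_of_mul_eq_one_left d]
      exact mul_mem (mul_mem a b) a
    refine eq_top_iff.2 (ht.ge.trans (sup_le ?_ (zpowers_le.2 h2)))
    rintro _ ⟨x, rfl⟩
    exact h1.ge (mem_top x)

theorem Fr.case_one (h : IsSylowIn 2 m.T ⊤) (wc : m.WC) (hO : m.HO) : m.A.Normal ∨ Nonempty (G ≃* Om10) := by
  rcases Fr.red h wc hO with h1 | h1
  · exact Or.inl h1
  have c : CI m := ⟨h, (Fr.st_T h).pre hO⟩
  obtain ⟨ψ, p⟩ := c.psi
  rcases c.dich p with hY | ⟨y, hy⟩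
  · exact Or.inl (normalizer_eq_top_iff.1 (m.range ▸ c.holt le_rfl (c.t5b hY)))
  · obtain ⟨ν, h2, h3⟩ := p.n5 hy
    exact Or.inr (c.ct h3 (c.holt le_sup_left (c.t5a h3 (c.Y_le p h2))))

end CfsgLib.L5R
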