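import Mathlib
import Cfsg.Agent.Lib.L5R.Ct
import Cfsg.Agent.Lib.L5R.Aut
import Cfsg.Agent.Lib.L5R.Cj
import Cfsg.Agent.Lib.Transfer.Cocycle
import Cfsg.Agent.Lib.Core.Cores

/-!
# case IIa (plans/L5R.md)
-/

set_option autoImplicit false
set_option maxHeartbeats 400000
set_option Elab.async false

namespace CfsgLib.L5R

open Subgroup Cfsg CfsgLib.Tech CfsgLib.Held CfsgLib.MOrb CfsgLib.L72 CfsgLib.LargeExtra CfsgLib.ExtraTwo

variable {G : Type*} [Group G] [Finite G] {m : Fr G} {s : G}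

namespace Iia

theorem two (h : SX m s) (hN : normalizer (m.V s : Set G) ≤ normalizer (m.im A2 : Set G)) :
    ∃ K : Subgroup G, K.index = 2 := by
  by_contra hG
  push Not at hG
  have h1 : ¬ 2 ∣ (m.S s).index := by simpa using h.syl.not_dvd
  have h2 : m.T.relIndex (m.S s) = 2 := by
    have := card_mul_relIndex' (le_sup_left : m.T ≤ m.S s)
    rw [h.card_S, Fr.card_im, card_T0, show 2 ^ 21 = 2 ^ 20 * 2 from rfl] at this
    exact Nat.eq_of_mul_eq_mul_left (by norm_num) this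
  have h3 : m.V s ≤ centralizer {s} :=
    sup_le (fun a ha => mem_centralizer_singleton_iff.2 (h.cen a ha).symm)
      (zpowers_le.2 (mem_centralizer_singleton_iff.2 rfl))
  obtain ⟨t, t1, t2⟩ := Transfer.thompson_transfer_extremal (H := m.S s) (Q := m.T) (R := m.V s) hG h1 h2 h.sq
    (IsPGroup.of_card h.card_V) h3
  have e : cj t⁻¹ (m.V s) = m.V s := by
    refine h.uniq (cj_le_iff.2 fun x hx => by simpa using t2 x hx) (fun b hb => ?_) (by rw [card_cj, h.card_V])
    have := h.V_sq _ (mem_cj.1 hb)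
    calc b * b = t⁻¹ * (t⁻¹⁻¹ * b * t⁻¹ * (t⁻¹⁻¹ * b * t⁻¹)) * t := by group
      _ = 1 := by rw [this]; group
  have n1 : t⁻¹ ∈ normalizer (m.V s : Set G) := mem_normalizer_iff_cj.2 e
  have a : t⁻¹ * s * t ∈ m.im A2 := by
    rw [← h.inf_N]
    refine ⟨?_, Fr.im_le_N t1⟩
    simpa using conj_mem_of_mem_normalizer n1 (le_sup_right (a := m.im A2) (mem_zpowers s))
  have b := conj_mem_of_mem_normalizer' (hN n1) a
  exact h.not_N (Fr.im_le_N (by simpa [mul_assoc] using b))

omit [Finite G] in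
theorem N_le {K : Subgroup G} (hK : K.index = 2) : m.N ≤ K := by
  have : commutator Mo ≤ K.comap m.φ := by
    rw [commutator_def, commutator_le]
    intro a _ b _
    simp only [mem_comap, commutatorElement_def, map_mul, map_inv, mul_mem_iff_of_index_two hK, inv_mem_iff]
    tauto
  rw [perf_Mo] at this
  rintro _ ⟨x, rfl⟩
  exact this (mem_top x)

omit [Finite G] in
theorem map_res {K : Subgroup G} (h : m.N ≤ K) (L : Subgroup Mo) : ((m.res K h).im L).map K.subtype = m.im L := by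
  rw [Fr.im, map_map]; rfl

omit [Finite G] in
theorem map_cj {K : Subgroup G} (g : K) (B : Subgroup K) : (cj g B).map K.subtype = cj (g : G) (B.map K.subtype) := by
  rw [Tech.cj, Tech.cj, map_map, map_map]; rfl

omit [Finite G] in
theorem cj_res {K : Subgroup G} {h : m.N ≤ K} {g : K} {L L' : Subgroup Mo}
    (e : cj g ((m.res K h).im L) = (m.res K h).im L') : cj (g : G) (m.im L) = m.im L' := by
  rw [← map_res h L, ← map_res h L', ← map_cj, e]

theorem ho {K : Subgroup G} [K.Normal] (h : m.N ≤ K) (hO : m.HO) : (m.res K h).HO := by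
  have e : (m.res K h).H.map K.subtype = m.H ⊓ K := by
    ext x
    refine ⟨?_, fun hx => ⟨⟨x, hx.2⟩, Fr.mem_H.2 (Subtype.ext (Fr.mem_H.1 hx.1)), rfl⟩⟩
    rintro ⟨y, hy, rfl⟩
    exact ⟨Fr.mem_H.2 (congrArg Subtype.val (Fr.mem_H.1 hy)), y.2⟩
  have a := Core.map_map_pPrimeCore_of_injective (p := 2) (m.res K h).H K.subtype_injective
  have b := Core.map_pPrimeCore_le_map_pPrimeCore (p := 2) (K := m.H ⊓ K) (H := m.H) inf_le_left (fun x hx =>
    mem_normalizer_of_forall fun y hy => ⟨m.H.mul_mem (m.H.mul_mem hx hy.1) (m.H.inv_mem hx), Normal.conj_mem inferInstance _ hy.2 _⟩)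
  rw [hO, Subgroup.map_bot, ← e, ← a, le_bot_iff, map_eq_bot_iff_of_injective _ K.subtype_injective,
    map_eq_bot_iff_of_injective _ (subtype_injective _)] at b
  exact b

theorem n34 : n 3 4 * e 0 4 * (n 3 4)⁻¹ ∉ A1 := by
  rw [n_inv, (((cd_n (by decide)).mul (cd_e (by decide))).mul (cd_n (by decide))).mem_A1]
  decide +kernel

theorem e04 : e 0 4 ∈ A1 := by decide +kernel

theorem n12 : n 1 2 * z0 ≠ z0 * n 1 2 := by
  rw [z0, Ne, ((cd_n (by decide)).mul (cd_t (by decide))).eq_iff ((cd_t (by decide)).mul (cd_n (by decide)))]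
  decide +kernel

end Iia

theorem SX.iia (h : SX m s) (hO : m.HO) (hN : normalizer (m.V s : Set G) ≤ normalizer (m.im A2 : Set G)) :
    Nonempty (G ≃* O10) := by
  obtain ⟨K, hK⟩ := Iia.two h hN
  have : K.Normal := normal_of_index_eq_two hK
  have hNK : m.N ≤ K := Iia.N_le hK
  have hs : s ∉ K := fun hs => by
    have a : m.S s ≤ K := sup_le (Fr.im_le_N.trans hNK) (zpowers_le.2 hs)
    have h1 : ¬ 2 ∣ (m.S s).index := by simpa using h.syl.not_dvd
    exact h1 (hK ▸ index_dvd_of_le a)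
  rcases (m.res K hNK).cases with ⟨c1, c2⟩ | ⟨g, g1, g2⟩
  · rcases Fr.case_one c1 c2 (Iia.ho hNK hO) with c | ⟨⟨e⟩⟩
    · exfalso
      have a : ∀ k ∈ K, cj k m.A = m.A := fun k hk => Iia.cj_res (g := ⟨k, hk⟩) (cj_eq_of_normal _ _)
      have b : cj (m.φ (n 3 4)) (m.im A1) = m.im A1 := by
        have := a _ (Normal.conj_mem' inferInstance _ (hNK ⟨n 3 4, rfl⟩) s)
        rw [← h.swap, ← cj_mul]
        conv_rhs => rw [← this, ← cj_mul]
        congr 1; group
      refine Iia.n34 (Fr.φ_mem (m := m).1 ?_)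
      rw [← b, map_mul, map_mul, map_inv, conj_mem_cj]
      exact Fr.φ_mem.2 Iia.e04
    · refine aut_om K e ?_ fun e => hs (e ▸ mem_top s)
      rw [eq_bot_iff]
      intro x hx
      rw [mem_centralizer_iff] at hx
      obtain ⟨y, -, rfl⟩ := Fr.cen_A (m := m) (g := x) fun a ha => hx a (hNK (Fr.im_le_N ha))
      have k : ∀ a, a * y = y * a := fun a => m.inj (by rw [map_mul, map_mul]; exact hx _ (hNK ⟨a, rfl⟩))
      rcases cen_T0 fun a _ => k a with rfl | rfl
      · exact (map_one m.φ).symm ▸ one_mem _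
      · exact (Iia.n12 (k _)).elim
  · exfalso
    have a := Iia.cj_res g2
    rcases h.all g (mem_normalizer_iff_cj.2 (Iia.cj_res (mem_normalizer_iff_cj.1 g1))) with c | c
    · rw [Fr.mem_N.1 (Fr.im_le_N c)] at a
      exact ne01 (map_injective m.inj a)
    · exact hs ((K.mul_mem_cancel_right g.2).1 (hNK (Fr.im_le_N c)))


end CfsgLib.L5R
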