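import Mathlib
import Cfsg.Agent.Lib.L5R.Bas2

/-!
# the large elementary abelian subgroups of `T0` (plans/L5R.md)
-/

set_option autoImplicit false
set_option maxHeartbeats 400000
set_option Elab.async false

namespace CfsgLib.L5R

open Subgroup Cfsg CfsgLib.Tech CfsgLib.Held CfsgLib.MOrb CfsgLib.L72 CfsgLib.LargeExtra CfsgLib.ExtraTwo

namespace Ja

open Bas2

section

variable {G : Type*} [Group G] {N C X Y W : Subgroup G}

theorem idx_le (S : Finset ℕ) (p : G → ℕ → Prop) (h1 : ∀ x ∈ C, ∃ k ∈ S, p x k)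
    (h2 : ∀ x ∈ C, ∀ y ∈ C, ∀ k, p x k → p y k → x⁻¹ * y ∈ N) : N.relIndex C ≤ S.card := by
  choose f f1 f2 using h1
  rw [← Nat.card_eq_finsetCard]
  refine Nat.card_le_card_of_injective (α := C ⧸ N.subgroupOf C) (fun q => ⟨f q.out q.out.2, f1 _ _⟩) fun a b e => ?_
  rw [← a.out_eq, ← b.out_eq]
  have e1 : f a.out a.out.2 = f b.out b.out.2 := congrArg Subtype.val e
  exact QuotientGroup.eq.2 (h2 _ a.out.2 _ b.out.2 _ (f2 _ a.out.2) (e1 ▸ f2 _ b.out.2))

theorem tri1 (hY : X ⊓ Y ≤ N) (hW : X ⊓ W ≤ N) (cov : ∀ c ∈ C, c ∈ X ∨ c ∈ Y ∨ c ∈ W) (hn : ¬ C ≤ X) {x x' : G}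
    (hx : x ∈ C) (hx' : x' ∈ C) (a : x ∈ X ∧ x ∉ N) (a' : x' ∈ X ∧ x' ∉ N) : x⁻¹ * x' ∈ N := by
  obtain ⟨y, hy, yX⟩ := SetLike.not_le_iff_exists.1 hn
  have k : ∀ {Y W : Subgroup G}, X ⊓ Y ≤ N → X ⊓ W ≤ N → (∀ c ∈ C, c ∈ X ∨ c ∈ Y ∨ c ∈ W) → y ∈ Y →
      x⁻¹ * x' ∈ N := fun {Y W} hY hW cov yY => by
    have k1 : ∀ u ∈ C, u ∈ X ∧ u ∉ N → y * u ∈ W := fun u hu b =>
      ((cov _ (mul_mem hy hu)).resolve_left fun e => yX ((mul_mem_cancel_right b.1).1 e)).resolve_left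
        fun e => b.2 (hY (mem_inf.2 ⟨b.1, (mul_mem_cancel_left yY).1 e⟩))
    refine hW (mem_inf.2 ⟨mul_mem (inv_mem a.1) a'.1, ?_⟩)
    simpa [mul_assoc] using W.mul_mem (W.inv_mem (k1 x hx a)) (k1 x' hx' a')
  rcases (cov y hy).resolve_left yX with e | e
  exacts [k hY hW cov e, k hW hY (fun c hc => (cov c hc).imp_right Or.symm) e]

/-- a group that is the union of three proper subgroups -/
theorem tri (h1 : X ⊓ Y ≤ N) (h2 : X ⊓ W ≤ N) (h3 : Y ⊓ W ≤ N) (cov : ∀ c ∈ C, c ∈ X ∨ c ∈ Y ∨ c ∈ W)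
    (nX : ¬ C ≤ X) (nY : ¬ C ≤ Y) (nW : ¬ C ≤ W) : N.relIndex C ≤ 4 := by
  refine idx_le (Finset.range 4) (fun x k => (k = 0 ∧ x ∈ N) ∨ (k = 1 ∧ x ∈ X ∧ x ∉ N) ∨ (k = 2 ∧ x ∈ Y ∧ x ∉ N) ∨
    (k = 3 ∧ x ∈ W ∧ x ∉ N)) (fun x hx => ?_) fun x hx y hy k a b => ?_
  · by_cases e : x ∈ N
    · exact ⟨0, by decide, by simp [e]⟩
    rcases cov x hx with a | a | a
    exacts [⟨1, by decide, by simp [e, a]⟩, ⟨2, by decide, by simp [e, a]⟩, ⟨3, by decide, by simp [e, a]⟩]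
  · rcases a with ⟨rfl, a⟩ | ⟨rfl, a⟩ | ⟨rfl, a⟩ | ⟨rfl, a⟩ <;> simp only [true_and, Nat.reduceEqDiff, false_and,
      or_false, false_or] at b
    · exact mul_mem (inv_mem a) b
    · exact tri1 h1 h2 cov nX hx hy a b
    · exact tri1 (inf_comm X Y ▸ h1) h3 (fun c hc => by have := cov c hc; tauto) nY hx hy a b
    · exact tri1 (inf_comm X W ▸ h2) (inf_comm Y W ▸ h3) (fun c hc => by have := cov c hc; tauto) nW hx hy a b

theorem cg_mul {x x' y y' : G} (hx : x ∈ normalizer (N : Set G)) (a : x * x'⁻¹ ∈ N) (b : y * y'⁻¹ ∈ N) :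
    x * y * (x' * y')⁻¹ ∈ N := by
  simpa [mul_assoc] using mul_mem (conj_mem_of_mem_normalizer hx b) a

end

theorem comm_R0 {r r' : Mo} (h : r ∈ R0) (h' : r' ∈ R0) : r * r' * (r' * r)⁻¹ ∈ Z0 := by
  have k : ∀ a ∈ R0, ∀ b ∈ R0, ∀ i, (a * b).x.1 i 4 = a.x.1 i 4 + b.x.1 i 4 := fun a ha b hb i => by
    have h1 : ∀ j, a.g.1 4 j = (1 : Mat) 4 j := fun j => ha.1 4 j (by revert j; decide)
    have h2 : ∀ j, j ≠ 4 → a.g.1 i j = (1 : Mat) i j := fun j hj =>
      ha.1 i j ((by decide : ∀ a j : Fin 5, j ≠ 4 → pE4 a j = true) i j hj)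
    change a.x.1 i 4 + (a.g.1 * b.x.1 * a.g.1.transpose) i 4 = _
    simp only [Matrix.mul_apply, Fin.sum_univ_five, h1, Matrix.transpose_apply, h2 0 (by decide), h2 1 (by decide),
      h2 2 (by decide), h2 3 (by decide), b.x.2.2]
    fin_cases i <;> simp [Matrix.one_apply, b.x.2.2]
  have k1 : ∀ a ∈ R0, io0 a.g ∈ A1 := fun a ha => ⟨ha.1, fun _ _ _ => rfl⟩
  have k2 : r.g * r'.g = r'.g * r.g := by
    have := congrArg Mo.g (A1_sq _ (mul_mem (k1 r h) (k1 r' h')))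
    have a := congrArg Mo.g (A1_sq _ (k1 r h))
    have b := congrArg Mo.g (A1_sq _ (k1 r' h'))
    rw [← inv_eq_of_mul_eq_one_right (show r.g * r'.g * (r.g * r'.g) = 1 from this), mul_inv_rev,
      inv_eq_of_mul_eq_one_right (show r.g * r.g = 1 from a), inv_eq_of_mul_eq_one_right (show r'.g * r'.g = 1 from b)]
  refine ⟨(mem_A0.2 (by rw [mul_g, inv_g, mul_g, mul_g, k2, mul_inv_cancel])).1, fun i j e => ?_⟩
  obtain rfl : j = 4 := Fin.ext (of_decide_eq_true e)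
  have := k _ (mul_mem (mul_mem h h') (inv_mem (mul_mem h' h))) _ (mul_mem h' h) i
  rwa [inv_mul_cancel_right, k r h r' h', k r' h' r h, add_comm (r'.x.1 i 4), right_eq_add] at this

/-- a pattern -/
def pL : Pt := fun i j => decide (j.val ≤ i.val ∨ j.val = 4)

/-- a complement to `R0` in `T0` -/
def L0 : Subgroup Mo := pat pL pA

/-- codes of the elements of `L0` -/
def yC (i : ℕ) : ℕ := Nat.xor oneC (Nat.lor (Nat.lor (Nat.shiftLeft (Nat.land i 7) 26)
  (Nat.shiftLeft (Nat.land (Nat.shiftRight i 3) 3) 32)) (Nat.shiftLeft (Nat.shiftRight i 5) 38))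

/-- codes of the elements of `Z0` -/
noncomputable def zC (i : ℕ) : ℕ := sy (Nat.xor oneC (Nat.lor (Nat.lor (Nat.shiftLeft (Nat.land i 7) 1)
  (Nat.shiftLeft (Nat.land (Nat.shiftRight i 3) 3) 7)) (Nat.shiftLeft (Nat.shiftRight i 5) 13)))

/-- codes of representatives of `A0 / Z0`, `A1 / Z0`, `A2 / Z0` -/
noncomputable def rC (s k : ℕ) : ℕ := sy (Nat.xor oneC (Nat.mul (spr k)
  (cond (Nat.beq s 0) 16 (cond (Nat.beq s 1) 0x20000000 0x20000010))))

/-- the index of the representative -/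
noncomputable def kx (c : ℕ) : ℕ := frc (Nat.shiftRight (Nat.lor c (cg c)) 4) fun d =>
  Nat.lor (Nat.lor (Nat.land d 1) (Nat.land (Nat.shiftRight d 4) 2))
    (Nat.lor (Nat.land (Nat.shiftRight d 8) 4) (Nat.land (Nat.shiftRight d 12) 8))

/-- the table of fixed points -/
def M (i : ℕ) : ℕ := Nat.land (Nat.shiftRight
  0xc30ff000000000f00f009900220044009900000000000000000000000000000000000000000000000000000000000000000000000000fff0f0000000000f0f009900110011009900c3f00f00000000f00f009900220044009900000000000000000000000000000000000000000000000000000000000000000000000000ff0f0f000000000f0f0099001100110099000000000000000000000000000000000000000000000000000000000000000000000000000000000000000000000000000000000000000000000000000000000000000000000000000000000000000000000000000000000000000000000000000000000000000000000000000000000000000000000000000000000000000000000000000000000000000000000000000000000000000000000000000000000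000000000000000000000000000000000000000003300000ff00000f00f008800330044003300ff0000f0f000000f0f001100330011003300000000000000000000000000000000000000000000000000000000000000000000000000330000f00f0000f00f008800330044003300ff00000f0f00000f0f0011003300110033000000000000000000000000000000000000f00f00000000c33c3cc30000000055555555000000000000000000000000000000000000000f000000003c3cc3c30000000055555555000000000000000000000000000000000000000f000000003cc33cc30000000055555555000000000000000000000000000000000000f00f00000000c3c3c3c30000000055555555000000000000000000000000000000000000000f000000000ff0f00f008800225555555500000000000000000000000000000000000000ff00000000f0f00f0f0011001155555555000000000000000000000000000000000000000f00000000f00ff00f008800225555555500000000000000000000000000000000000000ff000000000f0f0f0f0011001155555555000000000000000000000000000000000000000f0000000033cccc3300000000555555550000000000000000000000000000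00000000000f00000000cccc333300000000555555550000000000000000000000000000000000000f0f00000000cc33cc3300000000555555550000000000000000000000000000000000000f0f000000003333333300000000555555553cc3ff000000000000ff00990000000000fff00f00000000ff0000ff00000000555555ffcc330000ff00000000ff00000033000000ff00ff000000000000ffff00990033555555ffc3c300ff0000000000ff00990000000000ff0f0f0000000000ff00ff00000000555555ff3333000000ff000000ff00000033000000ffffffffffffffffffffff00990033555555ff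
  (Nat.mul 144 i)) 0xffffffffffffffffffffffffffffffffffff

/-- the fixed points of the elementary abelian subgroups of order eight -/
def l8 : List ℕ := [0x300000000000000ff00000000000000ff, 0x3000000000000f00f0088002200440011,
  0xf000000000000000f0000000055555555, 0xf00000000000000330000000055555555,
  0xf00000000000000c30000000055555555, 0xf00000000000003030000000055555555,
  0xf0000000000000c030000000055555555, 0xf00000000000030030000000055555555,
  0xf000000000000c0030000000055555555, 0xf00000000000300030000000055555555,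
  0xf00000000000c00030000000055555555, 0xf00000000003000030000000055555555,
  0xf0000000000c000030000000055555555, 0xf00000000030000030000000055555555,
  0xf000000000c0000030000000055555555, 0xf00000000300000030000000055555555,
  0xf00000000c00000030000000055555555, 0x33000000000000000f0000003300000033,
  0xc3000000000000000f0099000000000099, 0xff0000000000000f0f0011001100110011]

/-- a set of bits -/
def bs (m a n : ℕ) : Finset ℕ := (Finset.range n).filter fun k => m.testBit (a + k)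

theorem mem_bs {m a n k : ℕ} : k ∈ bs m a n ↔ k < n ∧ m.testBit (a + k) = true := by simp [bs]

theorem tC' : ∀ j < 64, mulC (yC j) (yC j) = oneC → ∀ i < 64, mulC (yC i) (yC i) = oneC →
    (M i).testBit (0 + j) = true ∨ cm (yC i) (yC j) = false := by decide +kernel

theorem tZ : ∀ i < 64, mulC (yC i) (yC i) = oneC → ∀ k < 64,
    (M i).testBit (64 + k) = true ∨ cm (zC k) (yC i) = false := by decide +kernel

theorem tU : ∀ i < 64, mulC (yC i) (yC i) = oneC → ∀ s < 3, ∀ k < 16, (M i).testBit (128 + k) = true ∨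
    inM 0x3ffffff084210 (mulC (mulC (rC s k) (yC i)) (mulC (rC s k) (yC i))) = false := by decide +kernel

/-- the table for triples -/
def p3 (i j : ℕ) : Prop := ∀ k < 64, (M i &&& M j).testBit (0 + k) = true → k = 0 ∨ k = i ∨ k = j ∨
  yC k = mulC (yC i) (yC j) ∨ (M i &&& M j &&& M k) ∈ l8

noncomputable instance (i j : ℕ) : Decidable (p3 i j) := by unfold p3; infer_instance

/-- the table for pairs -/
def p2 (i : ℕ) : Prop := ∀ j < 64, (M i).testBit (0 + j) = true → j ≠ 0 → j ≠ i →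
  (bs (M i &&& M j) 64 64).card ≤ 8 ∧ p3 i j

noncomputable instance (i : ℕ) : Decidable (p2 i) := by unfold p2; infer_instance

theorem t1 : ∀ i < 64, i ≠ 0 → mulC (yC i) (yC i) = oneC →
    (bs (M i) 64 64).card ≤ 16 ∧ (bs (M i) 128 16).card ≤ 8 ∧ p2 i := by decide +kernel

theorem t8 : ∀ m ∈ l8, (bs m 0 64).card * ((bs m 64 64).card * max (bs m 128 16).card 4) ≤ 256 ∨
    ((bs m 0 64).card ≤ 8 ∧ (bs m 128 16).card ≤ 8 ∧
      ∀ k < 64, m.testBit (64 + k) = true → inM 0x3ffffff8c6318 (zC k) = true) := by decide +kernel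

theorem tr_ok : ∀ s < 3, ∀ k < 16, okC (rC s k) (cg (rC s k)) = true := by decide +kernel

/-- the three groups -/
def AA (s : ℕ) : Subgroup Mo := if s = 0 then A0 else if s = 1 then A1 else A2

theorem lpR {r : Mo} (h : r ∈ R0) : (r * r = 1 → r ∈ A0 ∨ r ∈ A1 ∨ r ∈ A2) ∧
    ∀ s < 3, r ∈ AA s → ∃ k < 16, ∃ ρ, Cd ρ (rC s k) ∧ r * ρ ∈ Z0 := by
  obtain ⟨c, hc⟩ := exists_cd r
  have := hc.lp_R0 h (f := fun c => (inM 0x3fffffe000000 c || (inM 0x3ef7bdf084210 c || (inA2 c ||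
    !Nat.beq (mulC c c) oneC))) && (Nat.blt (kx c) 16 &&
    ((!inM 0x3fffffe000000 c || inM 0x3ffffff084210 (mulC c (rC 0 (kx c)))) &&
    ((!inM 0x3ef7bdf084210 c || inM 0x3ffffff084210 (mulC c (rC 1 (kx c)))) &&
    (!inA2 c || inM 0x3ffffff084210 (mulC c (rC 2 (kx c)))))))) (by decide +kernel)
  simp only [Bool.and_eq_true, Bool.or_eq_true, Bool.not_eq_true', Nat.blt_eq, ← hc.mem_A0, ← hc.mem_A1,
    ← hc.mem_A2, ← Bool.not_eq_true, Nat.beq_eq, ← (hc.mul hc).eq_one] at this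
  refine ⟨fun e => by tauto, fun s hs a => ⟨_, this.2.1, ?_⟩⟩
  obtain ⟨ρ, hρ⟩ := exists_of_okC (tr_ok s hs _ this.2.1)
  refine ⟨ρ, hρ, (hc.mul hρ).mem_Z0.2 ?_⟩
  interval_cases s
  exacts [this.2.2.1.resolve_left fun e => e a, this.2.2.2.1.resolve_left fun e => e a,
    this.2.2.2.2.resolve_left fun e => e a]

/-- `i` is the index of the image of `b` in `L0` -/
def Bl (b : Mo) (i : ℕ) : Prop := i < 64 ∧ ∃ l, Cd l (yC i) ∧ l ∈ L0 ∧ l * l = 1 ∧ b * l⁻¹ ∈ R0

theorem nR {x : Mo} (h : x ∈ T0) : x ∈ normalizer (R0 : Set Mo) := pat_norm (by decide +kernel) h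

theorem LT : L0 ≤ T0 := pat_le (by decide) (by decide)

theorem LR {x : Mo} (h : x ∈ L0) (h' : x ∈ R0) : x = 1 :=
  Mo.ext (Subtype.ext (Matrix.ext fun i j => h.2 i j rfl)) (mem_A0.1 (inf_le (by decide) (by decide) ⟨h, h'⟩))

theorem exists_bl {b : Mo} (h : b ∈ T0) (b2 : b * b = 1) : ∃ i, Bl b i := by
  have h1 : T0 ≤ R0 ⊔ L0 := gen_up (by decide) (fun i j _ _ => mem_sup_left (sup01.le (mem_sup_left (mem_A0.2 rfl))))
    fun i j l _ => ((by decide +kernel : ∀ i j : Fin 5, i < j → e i j ∈ R0 ∨ e i j ∈ pat pL pA) i j l).elim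
      mem_sup_left mem_sup_right
  have h2 := h1 h
  rw [← SetLike.mem_coe, coe_mul_of_right_le_normalizer_left _ _ fun x hx => nR (LT hx)] at h2
  obtain ⟨r, hr, l, hl, rfl⟩ := h2
  obtain ⟨c, hc⟩ := exists_cd l
  have h3 := hc.loop hl (bs := [26, 27, 28, 32, 33, 38]) (by decide +kernel)
    (f := fun c => (List.range 64).any fun i => Nat.beq c (yC i)) (by decide +kernel)
  simp only [List.any_eq_true, List.mem_range, Nat.beq_eq] at h3
  obtain ⟨i, hi, rfl⟩ := h3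
  have h4 : r * l * l⁻¹ ∈ R0 := by rwa [mul_inv_cancel_right]
  refine ⟨i, hi, l, hc, hl, LR (mul_mem hl hl) ?_, h4⟩
  simpa [b2] using R0.inv_mem (cg_mul (nR h) h4 h4)

variable {B : Subgroup Mo}

/-- the mask `m` contains the fixed points of `B` -/
structure Ok (B : Subgroup Mo) (m : ℕ) : Prop where
  c : ∀ b ∈ B, ∀ j, Bl b j → m.testBit (0 + j) = true
  z : ∀ x ∈ B, ∀ k < 64, Cd x (zC k) → x ∈ Z0 → m.testBit (64 + k) = true
  u : ∀ r ∈ B, r ∈ R0 → ∀ s < 3, ∀ k < 16, ∀ ρ, Cd ρ (rC s k) → r * ρ ∈ Z0 → m.testBit (128 + k) = true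

theorem Ok.and {m m' : ℕ} (h : Ok B m) (h' : Ok B m') : Ok B (m &&& m') :=
  ⟨fun b hb j a => by rw [Nat.testBit_and, h.c b hb j a, h'.c b hb j a]; rfl,
    fun x hx k a b c => by rw [Nat.testBit_and, h.z x hx k a b c, h'.z x hx k a b c]; rfl,
    fun r hr a s b k c ρ d e => by rw [Nat.testBit_and, h.u r hr a s b k c ρ d e, h'.u r hr a s b k c ρ d e]; rfl⟩

variable (h : B ≤ T0) (sq : ∀ b ∈ B, b * b = 1)
include sq

theorem cmB {x y : Mo} (hx : x ∈ B) (hy : y ∈ B) : x * y = y * x := by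
  rw [← inv_eq_of_mul_eq_one_right (sq _ (mul_mem hx hy)), mul_inv_rev, inv_eq_of_mul_eq_one_right (sq _ hx),
    inv_eq_of_mul_eq_one_right (sq _ hy)]

include h

theorem ok_of {b : Mo} (hb : b ∈ B) {i : ℕ} (a : Bl b i) : Ok B (M i) := by
  obtain ⟨hi, l, hl, lL, l2, bl⟩ := a
  have c2 := (hl.mul hl).eq_one.1 l2
  have nZ : ∀ x ∈ T0, x ∈ normalizer (Z0 : Set Mo) := fun x hx => N1_norm_Z0 (pat_le (by decide) (by decide) hx)
  refine ⟨fun b' hb' j ⟨hj, l', hl', lL', l2', bl'⟩ => (tC' j hj ((hl'.mul hl').eq_one.1 l2') i hi c2).resolve_right ?_,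
    fun x hx k hk cx xZ => (tZ i hi c2 k hk).resolve_right ?_,
    fun r hr rR s hs k hk ρ cρ rZ => (tU i hi c2 s hs k hk).resolve_right ?_⟩
  · rw [cm_of hl hl' (mul_inv_eq_one.1 (LR (mul_mem (mul_mem lL lL') (inv_mem (mul_mem lL' lL))) ?_))]
    · decide
    have := mul_mem (inv_mem (cg_mul (nR (h hb)) bl bl')) (cg_mul (nR (h hb')) bl' bl)
    simpa [mul_assoc, cmB sq hb hb'] using this
  · rw [cm_of cx hl ?_]
    · decide
    have := Commute.mul_right (Commute.inv_right (cen_Z0.2 bl x xZ)) (cmB sq hx hb)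
    simpa using this.eq
  · rw [((cρ.mul hl).mul (cρ.mul hl)).mem_Z0.1 ?_]
    · decide
    have e1 : ρ * l * (ρ * l) = r⁻¹ * (r * ρ) * r⁻¹⁻¹ * (r⁻¹ * (b * l⁻¹)⁻¹ * ((b * l⁻¹)⁻¹ * r⁻¹)⁻¹) *
        (l * (r * ρ) * l⁻¹) := by
      have e2 : l * r * l⁻¹ = (b * l⁻¹)⁻¹ * r * (b * l⁻¹) := by
        rw [show (b * l⁻¹)⁻¹ * r * (b * l⁻¹) = l * (b⁻¹ * (r * b)) * l⁻¹ by group, cmB sq hr hb]
        group
      have e3 : r⁻¹ = r := inv_eq_of_mul_eq_one_right (sq r hr)
      calc ρ * l * (ρ * l) = ρ * (l * r * l⁻¹)⁻¹ * (l * (r * ρ) * l⁻¹) * (l * l) := by group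
        _ = _ := by rw [l2, e2]; nth_rw 1 [← e3]; group
    rw [e1]
    exact mul_mem (mul_mem (conj_mem_of_mem_normalizer (inv_mem (nZ r (h hr))) rZ)
      (comm_R0 (inv_mem rR) (inv_mem bl))) (conj_mem_of_mem_normalizer (nZ l (LT lL)) rZ)

theorem bl_idx (S : Finset ℕ) (hS : ∀ b ∈ B, ∀ i, Bl b i → yC i ∈ S) : R0.relIndex B ≤ S.card := by
  refine idx_le S (fun b c => ∃ i, Bl b i ∧ yC i = c) (fun b hb => ?_) ?_
  · obtain ⟨i, a⟩ := exists_bl (h hb) (sq b hb)
    exact ⟨_, hS b hb i a, i, a, rfl⟩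
  · rintro x hx y hy _ ⟨i, ⟨-, l, hl, -, -, a⟩, rfl⟩ ⟨j, ⟨-, l', hl', -, -, a'⟩, e⟩
    obtain rfl := (hl'.eq_iff hl).2 e
    rw [inv_eq_of_mul_eq_one_right (sq x hx), ← inv_eq_of_mul_eq_one_right (sq y hy)]
    simpa [mul_assoc] using mul_mem a (inv_mem a')

omit h in
theorem split_R : B ⊓ R0 ≤ A0 ∨ B ⊓ R0 ≤ A1 ∨ B ⊓ R0 ≤ A2 ∨ Z0.relIndex (B ⊓ R0) ≤ 4 := by
  by_contra hn
  simp only [not_or] at hn
  exact hn.2.2.2 (tri inf01.le inf02.le inf12.le (fun c hc => (lpR hc.2).1 (sq c hc.1)) hn.1 hn.2.1 hn.2.2.1)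

omit h sq in
theorem card_eq : Nat.card B = R0.relIndex B * (Nat.card (B ⊓ Z0 : Subgroup Mo) * Z0.relIndex (B ⊓ R0)) := by
  have h1 : B ⊓ Z0 = B ⊓ R0 ⊓ Z0 := by rw [inf_assoc, inf_eq_right.2 (Z0_le_A2.trans A2_le_R0)]
  rw [← card_mul_relIndex' (inf_le_left : B ⊓ R0 ≤ B), inf_relIndex_left, mul_comm,
    ← card_mul_relIndex' (inf_le_left : B ⊓ R0 ⊓ Z0 ≤ B ⊓ R0), inf_relIndex_left, h1]

omit h sq in
theorem exists_z {x : Mo} (hx : x ∈ Z0) : ∃ k < 64, Cd x (zC k) := by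
  obtain ⟨c, hc⟩ := exists_cd x
  have h3 := hc.lp_Z0 hx (f := fun c => (List.range 64).any fun i => Nat.beq c (zC i)) (by decide +kernel)
  simp only [List.any_eq_true, List.mem_range, Nat.beq_eq] at h3
  obtain ⟨i, hi, rfl⟩ := h3
  exact ⟨i, hi, hc⟩

omit h in
theorem Ok.le {m : ℕ} (o : Ok B m) : Nat.card (B ⊓ Z0 : Subgroup Mo) ≤ (bs m 64 64).card ∧
    Z0.relIndex (B ⊓ R0) ≤ max (bs m 128 16).card 4 := by
  constructor
  · rw [← relIndex_bot_left]
    refine idx_le _ (fun x k => Cd x (zC k)) (fun x hx => ?_) fun x _ y _ k a b => ?_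
    · obtain ⟨k, hk, a⟩ := exists_z hx.2
      exact ⟨k, mem_bs.2 ⟨hk, o.z x hx.1 k hk a hx.2⟩, a⟩
    · rw [(a.eq_iff b).2 rfl, inv_mul_cancel]; exact one_mem _
  · have k : ∀ s < 3, B ⊓ R0 ≤ AA s → Z0.relIndex (B ⊓ R0) ≤ max (bs m 128 16).card 4 := fun s hs hle => by
      refine le_max_of_le_left (idx_le _ (fun r k => ∃ ρ, Cd ρ (rC s k) ∧ r * ρ ∈ Z0) (fun r hr => ?_) ?_)
      · obtain ⟨k, hk, ρ, a, b⟩ := (lpR hr.2).2 s hs (hle hr)
        exact ⟨k, mem_bs.2 ⟨hk, o.u r hr.1 hr.2 s hs k hk ρ a b⟩, ρ, a, b⟩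
      · rintro x hx y hy k ⟨ρ, a, b⟩ ⟨ρ', a', b'⟩
        obtain rfl := (a.eq_iff a').2 rfl
        rw [inv_eq_of_mul_eq_one_right (sq x hx.1), ← inv_eq_of_mul_eq_one_right (sq y hy.1)]
        simpa [mul_assoc] using mul_mem b (inv_mem b')
    rcases split_R sq with a | a | a | a
    exacts [k 0 (by decide) a, k 1 (by decide) a, k 2 (by decide) a, le_max_of_le_right a]

theorem core : B ≤ A0 ∨ B ≤ A1 ∨ B ≤ A2 ∨ Nat.card B ≤ 256 ∨
    (Nat.card B ≤ 64 * Nat.card (B ⊓ Z0 : Subgroup Mo) ∧ B ⊓ Z0 ≤ Z3) := by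
  have e := card_eq (B := B)
  by_cases c1 : ∃ b ∈ B, ∃ i, Bl b i ∧ i ≠ 0
  swap
  · have hR : B ≤ R0 := fun b hb => by
      obtain ⟨i, a⟩ := exists_bl (h hb) (sq b hb)
      obtain rfl : i = 0 := by_contra fun e => c1 ⟨b, hb, i, a, e⟩
      obtain ⟨-, l, hl, -, -, a⟩ := a
      rwa [hl.eq_one.2 (by decide +kernel), inv_one, mul_one] at a
    have h1 := split_R sq
    have h2 := card_le_of_le (inf_le_right : B ⊓ Z0 ≤ Z0)
    rw [inf_eq_left.2 hR] at h1 e
    rw [card_Z0] at h2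
    rw [relIndex_eq_one.2 hR, one_mul] at e
    exact h1.imp_right (.imp_right (.imp_right fun a => .inl (e ▸ Nat.mul_le_mul h2 a)))
  refine .inr (.inr (.inr ?_))
  obtain ⟨b1, hb1, i, a1, i0⟩ := c1
  have o1 := ok_of h sq hb1 a1
  obtain ⟨t11, t12, t13⟩ := t1 i a1.1 i0 (by
    obtain ⟨-, l, hl, -, l2, -⟩ := a1
    exact (hl.mul hl).eq_one.1 l2)
  have u1 : Z0.relIndex (B ⊓ R0) ≤ 8 := (o1.le sq).2.trans (max_le t12 (by decide))
  by_cases c2 : ∃ b ∈ B, ∃ j, Bl b j ∧ j ≠ 0 ∧ j ≠ i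
  swap
  · have h1 := bl_idx h sq {yC 0, yC i} fun b hb j a => by
      by_contra hn
      refine c2 ⟨b, hb, j, a, ?_, ?_⟩ <;> rintro rfl <;> simp at hn
    exact .inl (e ▸ Nat.mul_le_mul (h1.trans Finset.card_le_two) (Nat.mul_le_mul ((o1.le sq).1.trans t11) u1))
  obtain ⟨b2, hb2, j, a2, j0, ji⟩ := c2
  have o2 := o1.and (ok_of h sq hb2 a2)
  obtain ⟨t21, t22⟩ := t13 j a2.1 (o1.c b2 hb2 j a2) j0 ji
  by_cases c3 : ∃ b ∈ B, ∃ k, Bl b k ∧ k ≠ 0 ∧ k ≠ i ∧ k ≠ j ∧ yC k ≠ mulC (yC i) (yC j)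
  swap
  · have h1 := bl_idx h sq {yC 0, yC i, yC j, mulC (yC i) (yC j)} fun b hb k a => by
      by_contra hn
      refine c3 ⟨b, hb, k, a, ?_, ?_, ?_, fun e => by simp [e] at hn⟩ <;> rintro rfl <;> simp at hn
    exact .inl (e ▸ Nat.mul_le_mul (h1.trans Finset.card_le_four) (Nat.mul_le_mul ((o2.le sq).1.trans t21) u1))
  obtain ⟨b3, hb3, k, a3, k0, ki, kj, kp⟩ := c3
  have o3 := o2.and (ok_of h sq hb3 a3)
  have h1 := (bl_idx h sq ((bs (M i &&& M j &&& M k) 0 64).image yC) fun b hb l a =>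
    Finset.mem_image_of_mem _ (mem_bs.2 ⟨a.1, o3.c b hb l a⟩)).trans Finset.card_image_le
  rcases t8 _ (((((t22 k a3.1 (o2.c b3 hb3 k a3)).resolve_left k0).resolve_left ki).resolve_left kj).resolve_left kp) with a | ⟨a, -, a'⟩
  · exact .inl ((e ▸ Nat.mul_le_mul h1 (Nat.mul_le_mul (o3.le sq).1 (o3.le sq).2)).trans a)
  · refine .inr ⟨?_, fun x hx => ?_⟩
    · have := Nat.mul_le_mul (h1.trans a) (Nat.mul_le_mul_left (Nat.card (B ⊓ Z0 : Subgroup Mo)) u1)
      omega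
    · obtain ⟨l, hl, b⟩ := exists_z hx.2
      exact b.mem_Z3.2 (a' l hl (o3.z x hx.1 l hl b hx.2))

end Ja

theorem ja {B : Subgroup Mo} (h : B ≤ T0) (sq : ∀ b ∈ B, b * b = 1) :
    Nat.card B ≤ 2 ^ 10 ∧ (Nat.card B = 2 ^ 10 → B = A0 ∨ B = A1 ∨ B = A2) := by
  rcases Ja.core h sq with a | a | a | a | ⟨a, a'⟩
  · exact ⟨card_A0 ▸ card_le_of_le a, fun e => .inl (eq_of_le_of_card_ge a (by rw [e, card_A0]))⟩
  · exact ⟨card_A1 ▸ card_le_of_le a, fun e => .inr (.inl (eq_of_le_of_card_ge a (by rw [e, card_A1])))⟩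
  · exact ⟨card_A2 ▸ card_le_of_le a, fun e => .inr (.inr (eq_of_le_of_card_ge a (by rw [e, card_A2])))⟩
  · exact ⟨by omega, fun e => by omega⟩
  · have := card_le_of_le a'
    rw [card_Z3] at this
    exact ⟨by omega, fun e => by omega⟩

theorem jb {B : Subgroup Mo} (h : B ≤ T0) (sq : ∀ b ∈ B, b * b = 1) (hc : Nat.card B = 2 ^ 9) (h0 : B ⊓ A0 ≤ Z0)
    (h1 : B ⊓ A1 ≤ Z0) : B ≤ A2 ∨ B ⊓ Z0 = Z3 := by
  have k : ¬ B ≤ Z0 := fun a => by
    have := card_le_of_le a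
    rw [card_Z0] at this
    omega
  rcases Ja.core h sq with a | a | a | a | ⟨a, a'⟩
  · exact absurd ((le_inf le_rfl a).trans h0) k
  · exact absurd ((le_inf le_rfl a).trans h1) k
  · exact .inl a
  · omega
  · exact .inr (eq_of_le_of_card_ge a' (by rw [card_Z3]; omega))

end CfsgLib.L5R
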