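import Mathlib
import Cfsg.Agent.Lib.L5R.Bas1b
import Cfsg.Agent.Lib.SylT.L5i

/-!
# groups with the local structure of `N(V) / V` (plans/L5R.md)
-/

set_option autoImplicit false
set_option maxHeartbeats 400000
set_option Elab.async false

namespace CfsgLib.L5R

open Subgroup Cfsg CfsgLib.Tech CfsgLib.Held CfsgLib.MOrb CfsgLib.L72 CfsgLib.LargeExtra CfsgLib.ExtraTwo

namespace Xs

instance decP4 (g : GN 5) : Decidable (g ∈ P4) := inferInstanceAs (Decidable (g ∈ patG pN1))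
instance decE4 (g : GN 5) : Decidable (g ∈ E4) := inferInstanceAs (Decidable (g ∈ patG pE4))

theorem E4_le_U5 : E4 ≤ U5 := fun _ h i j e => h i j (by revert i j; decide)

theorem U5_le_P4 : U5 ≤ P4 := fun _ h i j e => h i j (by revert i j; decide)

/-- the upper left block -/
def blk : P4 →* Matrix (Fin 4) (Fin 4) (ZMod 2) where
  toFun g := g.1.1.submatrix Fin.castSucc Fin.castSucc
  map_one' := Matrix.submatrix_one _ (Fin.castSucc_injective 4)
  map_mul' a b := Matrix.ext fun i j => by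
    have : b.1.1 (Fin.last 4) j.castSucc = 0 :=
      (b.2 _ _ (by revert j; decide)).trans (Matrix.one_apply_ne (Fin.castSucc_lt_last j).ne')
    change (a.1.1 * b.1.1) _ _ = _
    rw [Matrix.mul_apply, Matrix.mul_apply, Fin.sum_univ_castSucc, this, mul_zero, add_zero]
    rfl

/-- the Levi quotient -/
def rho : P4 →* GN 4 := blk.toHomUnits

theorem rho_surj : rho.range = ⊤ := gen_GN _ fun i j =>
  ⟨⟨E i.castSucc j.castSucc, by revert i j; decide +kernel⟩, Units.ext (Matrix.ext fun a b => by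
    change eM _ _ a.castSucc b.castSucc = eM i j a b
    simp [eM])⟩

theorem rho_ker : rho.ker = E4.subgroupOf P4 := by
  ext g
  rw [MonoidHom.mem_ker, mem_subgroupOf, Units.ext_iff]
  refine ⟨fun h i j e => ?_, fun h => Matrix.ext fun i j => (h _ _ (by revert i j; decide)).trans (by
    simp [Matrix.one_apply])⟩
  by_cases hi : i = 4
  · exact g.2 i j (by simp [pN1, hi])
  · obtain ⟨a, rfl⟩ := Fin.exists_castSucc_eq.2 (show i ≠ Fin.last 4 from hi)
    obtain ⟨b, rfl⟩ := Fin.exists_castSucc_eq.2 (show j ≠ Fin.last 4 by revert a j; decide)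
    exact (congrFun (congrFun h a) b).trans (by simp [Matrix.one_apply])

theorem cen_U5 {x : GN 5} (hx : x ∈ U5) (h : ∀ t ∈ U5, t * x = x * t) : x = 1 ∨ x = E 0 4 := by
  have k : ∀ i j : Fin 5, i < j → (∀ a, a ≠ i → x.1 a i = 0) ∧ ∀ b, b ≠ j → x.1 j b = 0 := fun i j hij => by
    have e := h (E i j) (Bas1.E_mem (by simpa [pT] using hij))
    refine ⟨fun a ha => ?_, fun b hb => ?_⟩
    · have := Bas1.mul_E_same x hij.ne a
      rw [← e, Bas1.E_mul_ne x hij.ne j ha] at this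
      simpa using this
    · have := Bas1.E_mul_same x hij.ne b
      rw [e, Bas1.mul_E_ne x hij.ne i hb] at this
      simpa using this
  have k2 : ∀ a b : Fin 5, ¬ (a = 0 ∧ b = 4) → x.1 a b = (1 : Mat) a b := fun a b hab => by
    by_cases e : a = b
    · exact hx a b (by simp [pT, e])
    rw [Matrix.one_apply_ne e]
    by_cases hb : b = 4
    · exact (k 0 a (by revert a b; decide)).2 b (Ne.symm e)
    · exact (k b 4 (by revert a b; decide)).1 a e
  by_cases e : x.1 0 4 = 0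
  · refine Or.inl (Units.ext (Matrix.ext fun a b => ?_))
    by_cases hab : a = 0 ∧ b = 4
    · rw [hab.1, hab.2, e]; rfl
    · exact k2 a b hab
  · refine Or.inr (Units.ext (Matrix.ext fun a b => ?_))
    by_cases hab : a = 0 ∧ b = 4
    · rw [hab.1, hab.2, Bas1.eq_one_of_ne e]; rfl
    · rw [k2 a b hab, coe_E, eM, Matrix.of_apply, if_neg hab, Matrix.one_apply]

theorem normal_P4 (K : Subgroup P4) [hK : K.Normal] :
    U5.subgroupOf P4 ⊓ K = ⊥ ∨ K = E4.subgroupOf P4 ∨ K = ⊤ := by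
  by_cases h0 : U5.subgroupOf P4 ⊓ K = ⊥
  · exact Or.inl h0
  obtain ⟨z, hz, ho, hc⟩ := exists_mem_center_of_normalized (p := 2) (T := U5.subgroupOf P4)
    (syl_U5.pgroup.comap_of_injective _ P4.subtype_injective) inf_le_left
    (fun t ht => mem_normalizer_of_forall fun x hx =>
      ⟨Subgroup.mul_mem _ (Subgroup.mul_mem _ ht hx.1) (Subgroup.inv_mem _ ht), hK.conj_mem _ hx.2 t⟩) h0
  have h1 : E 0 4 ∈ K.map P4.subtype := by
    rcases cen_U5 hz.1 fun t ht => congrArg Subtype.val (hc ⟨t, U5_le_P4 ht⟩ ht) with e | e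
    · rw [show z = 1 from Subtype.ext e] at ho
      simp at ho
    · exact ⟨z, hz.2, e⟩
  have h2 : E4 ≤ K.map P4.subtype := gen_upG (by decide) fun i j hij he => by
    obtain ⟨y, hy, e⟩ := h1
    have k : ∀ i j : Fin 5, i < j → E i j ∈ E4 → sw 0 i ∈ P4 ∧ sw 0 i * E 0 4 = E i j * sw 0 i := by decide +kernel
    refine ⟨_, hK.conj_mem _ hy ⟨_, (k i j hij he).1⟩, ?_⟩
    change sw 0 i * P4.subtype y * (sw 0 i)⁻¹ = _
    rw [e, (k i j hij he).2, mul_inv_cancel_right]
  have h3 : rho.ker ≤ K := fun x hx => by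
    obtain ⟨y, hy, e⟩ := h2 (rho_ker.le hx)
    rwa [← show y = x from Subtype.ext e]
  rcases (simple_GN (n := 4) (by norm_num)).eq_bot_or_eq_top_of_normal _
    (hK.map rho (MonoidHom.range_eq_top.1 rho_surj)) with e | e
  · exact Or.inr (Or.inl (rho_ker ▸ le_antisymm ((Subgroup.map_eq_bot_iff _).1 e) h3))
  · refine Or.inr (Or.inr ?_)
    rw [← comap_map_eq_self h3, e, comap_top]

theorem E4_comm {x y : GN 5} (hx : x ∈ E4) (hy : y ∈ E4) : x * y = y * x := by
  have k : ∀ {x y : GN 5}, x ∈ E4 → (∀ i j : Fin 5, i < j → E i j ∈ E4 → E i j * x = x * E i j) →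
      y ∈ E4 → y * x = x * y := fun _ h hy =>
    mem_centralizer_singleton_iff.1 (gen_upG (by decide) (fun i j hij he => mem_centralizer_singleton_iff.2
      (h i j hij he)) hy)
  refine k hy (fun i j _ he => (k he (fun a b => ?_) hy).symm) hx
  clear hx hy k
  revert i j a b
  decide +kernel

end Xs

theorem XD.simple {X : Type*} [Group X] [Finite X] {ψ : P4 →* X} (h : XD ψ) (hO : pPrimeCore 2 X = ⊥) :
    IsSimpleGroup X := by
  haveI : Nontrivial X := not_subsingleton_iff_nontrivial.1 fun _ => h.ne (Subsingleton.elim _ _)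
  refine ⟨fun M hM => ?_⟩
  have hn : ∀ g, g ∈ normalizer (M : Set X) := fun g => mem_normalizer_iff_cj.2 (cj_eq_of_normal g M)
  have hs := h.syl.inf_of_le_normalizer (N := M) fun x _ => hn x
  rw [top_inf_eq] at hs
  have hb : ∀ {S : Subgroup X}, IsSylowIn 2 S M →
      (∀ n ∈ M, n ∈ normalizer (S : Set X) → ∀ x ∈ S, n * x = x * n) → M ≤ S := fun hS hc =>
    W2.le_of_npc (W2.npc_of_burnside hS hc) hS
      ((PComp.opOf_le_pPrimeCore hM.isSubnormal).trans (hO.le.trans bot_le)) le_rfl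
  have e1 : (U5.subgroupOf P4).map ψ ⊓ M = (U5.subgroupOf P4 ⊓ M.comap ψ).map ψ := by
    ext x
    exact ⟨fun ⟨⟨y, hy, e⟩, hx⟩ => ⟨y, ⟨hy, show ψ y ∈ M from e ▸ hx⟩, e⟩,
      fun ⟨y, hy, e⟩ => ⟨⟨y, hy.1, e⟩, e ▸ hy.2⟩⟩
  rcases Xs.normal_P4 (M.comap ψ) with e | e | e
  · rw [e1, e, Subgroup.map_bot] at hs
    exact Or.inl (le_bot_iff.1 (hb hs fun n _ _ x hx => by rw [mem_bot.1 hx, mul_one, one_mul]))
  · rw [e1, e, inf_eq_right.2 (show E4.subgroupOf P4 ≤ U5.subgroupOf P4 from comap_mono Xs.E4_le_U5)] at hs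
    have h2 := hb hs fun n hn hm x hx => by
      obtain ⟨a, rfl⟩ := h.nE hm
      obtain ⟨b, hb, rfl⟩ := hx
      rw [← map_mul, ← map_mul]
      exact congrArg ψ (Subtype.ext (Xs.E4_comm (e.le hn) hb))
    exact absurd (eq_top_iff.2 fun g _ => h.nE (le_antisymm h2 hs.le ▸ hn g)) h.ne
  · have h1 : ψ.range ≤ M := by
      rintro _ ⟨a, rfl⟩
      exact e.ge (mem_top a)
    refine Or.inr (eq_top_iff.2 fun g _ => ?_)
    obtain ⟨n, hnM, hg⟩ := (h.syl.of_le ((map_le_range _ _).trans h1) le_top).frattini (hn g)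
    exact (mul_mem_cancel_left hnM).1 (h1 (h.nU hg))

theorem XD.cls {X : Type*} [Group X] [Finite X] {ψ : P4 →* X} (h : XD ψ) (hO : pPrimeCore 2 X = ⊥) :
    Nonempty (X ≃* GN 5) ∨ Nonempty (X ≃* M24) ∨ Nonempty (X ≃* Spor.He) := by
  haveI := h.simple hO
  let f : GN 5 ≃* SL5 := MulEquiv.ofBijective (toSL 5) (toSL_bij 5)
  obtain ⟨e⟩ := SylT.TL.equiv_SL5 (syl_U5.toSylowTop.mapSurjective (f := f.toMonoidHom) f.surjective)
  obtain ⟨φ, hφ⟩ := SylT.TL.SL.of_equiv h.syl.toSylowTop (e.trans (((f.subgroupMap U5).symm.trans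
    (subgroupOfEquivOfLe Xs.U5_le_P4).symm).trans (equivMapOfInjective _ ψ h.inj)))
  exact hφ.core.imp_left fun ⟨g⟩ => ⟨g.trans f.symm⟩


end CfsgLib.L5R
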